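import Mathlib
import Groth.Prelude.Def_AlgSt
import Groth.Agent.Lib.Helper10.StkPsh

/-!
# Equality of functors into the category of a presheaf
-/

set_option autoImplicit false
set_option backward.isDefEq.respectTransparency false
set_option backward.isDefEq.respectTransparency.types false

universe w v₂ u₂ v u

open CategoryTheory Opposite

namespace Groth.Agent.Lib.Helper28.QuotSt.PshExt

open Groth.Agent.Lib.Helper10.StkPsh

variable {C : Type u} [Category.{v} C] {P : Cᵒᵖ ⥤ Type w} {𝒜 : BasedCategory.{v₂, u₂} C}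

theorem eltObj_ext {x y : Stk.EltObj P} (hb : x.base = y.base)
    (hs : P.map (eqToHom hb).op y.sec = x.sec) : x = y := by
  obtain ⟨xb, xs⟩ := x
  obtain ⟨yb, ys⟩ := y
  dsimp only at hb
  subst hb
  simp at hs
  subst hs
  rfl

theorem eqToHom_hom {x y : Stk.EltObj P} (h : x = y) :
    (eqToHom h : x ⟶ y).hom = eqToHom (congrArg Stk.EltObj.base h) := by
  subst h; rfl

theorem obj_eq_of_secOf_eq (G G' : 𝒜 ⥤ᵇ Stk.ofPsh P) (a : 𝒜.obj) (h : secOf G a = secOf G' a) :
    G.obj a = G'.obj a :=
  eltObj_ext ((baseEq G a).trans (baseEq G' a).symm) (sec_of_tr_eq (baseEq G a) (baseEq G' a) h)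

/-- Two functors over `C` into the category of a presheaf with the same sections are equal. -/
theorem basedFunctor_ext (G G' : 𝒜 ⥤ᵇ Stk.ofPsh P) (h : ∀ a, secOf G a = secOf G' a) : G = G' := by
  have hobj : ∀ a, G.obj a = G'.obj a := fun a => obj_eq_of_secOf_eq G G' a (h a)
  have hF : G.toFunctor = G'.toFunctor := by
    refine CategoryTheory.Functor.ext hobj (fun a b k => ?_)
    apply Stk.EltObj.hom_ext
    rw [Stk.EltObj.comp_hom, Stk.EltObj.comp_hom, eqToHom_hom, eqToHom_hom, map_hom_eq G k,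
      map_hom_eq G' k]
    simp
  obtain ⟨GF, Gw⟩ := G
  obtain ⟨GF', Gw'⟩ := G'
  dsimp only at hF
  subst hF
  rfl

end Groth.Agent.Lib.Helper28.QuotSt.PshExt
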