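import Mathlib
import Groth.Prelude.Def_AlgSt5
import Groth.Agent.Lib.Helper29.QuotUnpack
import Groth.Agent.Lib.Helper28.QuotSt.PshExt

/-!
# Quotient stacks `[X/G]` (torsor description): basic torsor facts
-/

set_option autoImplicit false
set_option backward.isDefEq.respectTransparency false
set_option backward.isDefEq.respectTransparency.types false

universe u

open CategoryTheory CategoryTheory.Limits MonoidalCategory CartesianMonoidalCategory MonObj GrpObj
  AlgebraicGeometry Opposite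

namespace Groth.Agent.Lib.Helper28.QuotSt.Basic

variable {S : Scheme.{u}} {K : Precoverage Scheme.{u}} {G : Over S} [GrpObj G] {X : Over S}
  {aX : AlgGrp.Action G X}

/-- The sieve of morphisms to the base along which the torsor acquires a section. -/
def secSieve (A : AlgSt.QuotObj K G aX) : Sieve A.base where
  arrows V h := ∃ s : V ⟶ A.P, s ≫ A.π = h
  downward_closed := by
    rintro V W h ⟨s, rfl⟩ k
    exact ⟨k ≫ s, by simp⟩

theorem secSieve_mem (A : AlgSt.QuotObj K G aX) : secSieve A ∈ QuotSh.J K S A.base := by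
  obtain ⟨R, hR, hsec⟩ := A.loc
  obtain ⟨κ, Y, c, rfl⟩ := R.exists_eq_ofArrows
  let V : κ → Over S := fun l => Over.mk (c l ≫ A.base.hom)
  let ψ : ∀ l, V l ⟶ A.base := fun l => Over.homMk (c l) rfl
  have h1 : Sieve.ofArrows V ψ ∈ QuotSh.J K S A.base :=
    Groth.Agent.Lib.Helper29.QuotUnpack.mem_J_of_cover K V ψ hR
  refine (QuotSh.J K S).superset_covering ?_ h1
  rw [Sieve.ofArrows, Sieve.generate_le_iff]
  rintro W _ ⟨l⟩
  obtain ⟨s, hs⟩ := hsec (c l) (Presieve.ofArrows.mk l)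
  have hs' : s ≫ A.π.left = c l := hs
  refine ⟨Over.homMk s ?_, ?_⟩
  · show s ≫ A.P.hom = c l ≫ A.base.hom
    rw [← hs', Category.assoc, Over.w]
  · ext
    exact hs'

theorem exists_diff (A : AlgSt.QuotObj K G aX) {V : Over S} (s s' : V ⟶ A.P)
    (h : s ≫ A.π = s' ≫ A.π) : ∃ g : V ⟶ G, lift g s' ≫ A.act.act = s := by
  refine ⟨A.cart.lift s s' h ≫ fst G A.P, ?_⟩
  have e : lift (A.cart.lift s s' h ≫ fst G A.P) s' = A.cart.lift s s' h := by
    apply CartesianMonoidalCategory.hom_ext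
    · simp
    · simp
  rw [e, A.cart.lift_fst]

variable {M : AlgSp.Sp S} (f : (AlgSp.yon S).obj X ⟶ M)

/-- The value of `f` at a point of `X`. -/
def fa {V : Over S} (x : V ⟶ X) : M.obj.obj (op V) := f.hom.app (op V) ⟨x⟩

theorem fa_comp {V W : Over S} (k : W ⟶ V) (x : V ⟶ X) :
    M.obj.map k.op (fa f x) = fa f (k ≫ x) := by
  have := NatTrans.naturality_apply f.hom k.op (⟨x⟩ : ULift (V ⟶ X))
  exact this.symm

/-- `f` is invariant. -/
def Inv (aX : AlgGrp.Action G X) : Prop :=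
  (AlgSp.yon S).map aX.act ≫ f = (AlgSp.yon S).map (snd G X) ≫ f

theorem fa_act (hf : Inv f aX) {V : Over S} (a : V ⟶ G ⊗ X) :
    fa f (a ≫ aX.act) = fa f (a ≫ snd G X) := by
  have := congrArg (fun t => t.hom.app (op V) (⟨a⟩ : ULift (V ⟶ G ⊗ X))) hf
  exact this

theorem fa_sec_eq (hf : Inv f aX) (A : AlgSt.QuotObj K G aX) {V : Over S} (s s' : V ⟶ A.P)
    (h : s ≫ A.π = s' ≫ A.π) : fa f (s ≫ A.φ) = fa f (s' ≫ A.φ) := by
  obtain ⟨g, hg⟩ := exists_diff A s s' h
  have e1 : s ≫ A.φ = lift g (s' ≫ A.φ) ≫ aX.act := by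
    rw [← hg, Category.assoc, A.eqv, ← Category.assoc]
    congr 1
    apply CartesianMonoidalCategory.hom_ext <;> simp
  rw [e1, fa_act f hf]
  simp

end Groth.Agent.Lib.Helper28.QuotSt.Basic
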