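import Mathlib
import Groth.Agent.Lib.Helper28.QuotSt.Basic

/-!
# Invariant maps descend to the quotient stack
-/

set_option autoImplicit false
set_option backward.isDefEq.respectTransparency false
set_option backward.isDefEq.respectTransparency.types false

universe u

open CategoryTheory CategoryTheory.Limits MonoidalCategory CartesianMonoidalCategory MonObj GrpObj
  AlgebraicGeometry Opposite

namespace Groth.Agent.Lib.Helper28.QuotSt.Desc

open Groth.Agent.Lib.Helper28.QuotSt.Basic Groth.Agent.Lib.Helper28.QuotSt.PshExt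
  Groth.Agent.Lib.Helper10.StkPsh

variable {S : Scheme.{u}} {G : Over S} [GrpObj G] {X : Over S}
  {aX : AlgGrp.Action G X}

local notation "K" => Scheme.fppfPrecoverage

section Triv

/-- A section of a torsor trivialises it. -/
noncomputable def trivHom (A : AlgSt.QuotObj K G aX) {V : Over S} (s : V ⟶ A.P) :
    (AlgSt.quotMap K G aX).obj (⟨V, ⟨s ≫ A.φ⟩⟩ : (AlgSt.ofSch X).obj) ⟶ A where
  base := s ≫ A.π
  top := (G ◁ s) ≫ A.act.act
  eqv := by
    have hμ : fst (G ⊗ G) A.P ≫ μ[G] = (fst _ _ ≫ fst G G) * (fst _ _ ≫ snd G G) := by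
      rw [Hom.mul_def, ← comp_lift, lift_fst_snd, Category.comp_id]
    have h : (AlgSt.leftMul G V).act ≫ (G ◁ s) =
        (G ◁ (G ◁ s)) ≫ (α_ G G A.P).inv ≫ (μ[G] ▷ A.P) := by
      apply CartesianMonoidalCategory.hom_ext
      · simp only [AlgSt.leftMul, Category.assoc, lift_fst, lift_snd, lift_fst_assoc, lift_snd_assoc, comp_lift, comp_mul, whiskerLeft_fst, whiskerLeft_snd, whiskerLeft_fst_assoc, whiskerLeft_snd_assoc, whiskerRight_fst, whiskerRight_snd, whiskerRight_fst_assoc, whiskerRight_snd_assoc, associator_hom_fst, associator_hom_snd_fst, associator_hom_snd_snd, associator_hom_snd_fst_assoc, associator_hom_snd_snd_assoc, associator_inv_fst_fst, associator_inv_fst_snd, associator_inv_snd, associator_inv_fst_fst_assoc, associator_inv_fst_snd_assoc, associator_inv_snd_assoc, hμ]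
      · simp only [AlgSt.leftMul, Category.assoc, lift_fst, lift_snd, lift_fst_assoc, lift_snd_assoc, comp_lift, comp_mul, whiskerLeft_fst, whiskerLeft_snd, whiskerLeft_fst_assoc, whiskerLeft_snd_assoc, whiskerRight_fst, whiskerRight_snd, whiskerRight_fst_assoc, whiskerRight_snd_assoc, associator_hom_fst, associator_hom_snd_fst, associator_hom_snd_snd, associator_hom_snd_fst_assoc, associator_hom_snd_snd_assoc, associator_inv_fst_fst, associator_inv_fst_snd, associator_inv_snd, associator_inv_fst_fst_assoc, associator_inv_fst_snd_assoc, associator_inv_snd_assoc]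
    have hm : (G ◁ A.act.act) ≫ A.act.act = (α_ G G A.P).inv ≫ (μ[G] ▷ A.P) ≫ A.act.act := by
      rw [A.act.mul_act, Iso.inv_hom_id_assoc]
    change (AlgSt.leftMul G V).act ≫ (G ◁ s) ≫ A.act.act = (G ◁ ((G ◁ s) ≫ A.act.act)) ≫ A.act.act
    rw [MonoidalCategory.whiskerLeft_comp, Category.assoc, hm, reassoc_of% h]
  cart := (AlgSt.isPullback_whiskerLeft s).paste_horiz A.cart
  wφ := by
    change ((G ◁ s) ≫ A.act.act) ≫ A.φ = (G ◁ (s ≫ A.φ)) ≫ aX.act
    rw [Category.assoc, A.eqv, MonoidalCategory.whiskerLeft_comp, Category.assoc]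

end Triv

variable {M : AlgSp.Sp S} (f : (AlgSp.yon S).obj X ⟶ M)

/-- The family of elements on the section sieve. -/
noncomputable def fam (A : AlgSt.QuotObj K G aX) :
    Presieve.FamilyOfElements M.obj (secSieve A).arrows :=
  fun _ _ hh => fa f (hh.choose ≫ A.φ)

variable (hf : Inv f aX)
include hf

theorem fam_eq (A : AlgSt.QuotObj K G aX) {V : Over S} (h : V ⟶ A.base) (hh : secSieve A h)
    (s : V ⟶ A.P) (hs : s ≫ A.π = h) : fam f A h hh = fa f (s ≫ A.φ) :=
  fa_sec_eq f hf A _ _ (hh.choose_spec.trans hs.symm)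

theorem fam_compatible (A : AlgSt.QuotObj K G aX) : (fam f A).Compatible := by
  intro V₁ V₂ W g₁ g₂ h₁ h₂ hh₁ hh₂ e
  rw [fam_eq f hf A h₁ hh₁ _ hh₁.choose_spec, fam_eq f hf A h₂ hh₂ _ hh₂.choose_spec, fa_comp,
    fa_comp, ← Category.assoc, ← Category.assoc]
  apply fa_sec_eq f hf A
  rw [Category.assoc, Category.assoc, hh₁.choose_spec, hh₂.choose_spec, e]

omit hf in
theorem isSheafFor (A : AlgSt.QuotObj K G aX) :
    Presieve.IsSheafFor M.obj (secSieve A).arrows :=
  ((isSheaf_iff_isSheaf_of_type _ _).1 M.cond) _ (secSieve_mem A)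

/-- The descended section. -/
noncomputable def mOf (A : AlgSt.QuotObj K G aX) : M.obj.obj (op A.base) :=
  (isSheafFor A).amalgamate (fam f A) (fam_compatible f hf A)

theorem mOf_spec (A : AlgSt.QuotObj K G aX) {V : Over S} (s : V ⟶ A.P) :
    M.obj.map (s ≫ A.π).op (mOf f hf A) = fa f (s ≫ A.φ) := by
  have := (isSheafFor (M := M) A).valid_glue (fam_compatible f hf A) (s ≫ A.π) ⟨s, rfl⟩
  rw [mOf, this, fam_eq f hf A _ _ s rfl]

theorem mOf_unique (A : AlgSt.QuotObj K G aX) (m' : M.obj.obj (op A.base))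
    (h : ∀ {V : Over S} (s : V ⟶ A.P), M.obj.map (s ≫ A.π).op m' = fa f (s ≫ A.φ)) :
    m' = mOf f hf A := by
  apply (isSheafFor (M := M) A).isSeparatedFor.ext
  rintro V _ ⟨s, rfl⟩
  rw [h s, mOf_spec]

/-- The functor `[X/G] ⟶ M` induced by an invariant map. -/
noncomputable def descFun : AlgSt.QuotSt K G aX ⥤ᵇ AlgSt.ofSp M where
  toFunctor :=
    { obj := fun A => ⟨A.base, mOf f hf A⟩
      map := fun {A B} m => ⟨m.base, by
        apply mOf_unique f hf A
        intro V s
        rw [map_map]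
        have e : (s ≫ A.π) ≫ m.base = (s ≫ m.top) ≫ B.π := by
          rw [Category.assoc, Category.assoc, m.cart.w]
        rw [e, mOf_spec, Category.assoc, m.wφ]⟩
      map_id := fun A => by ext; rfl
      map_comp := fun f g => by ext; rfl }
  w := rfl

omit hf in
theorem map_eqToHom_self {A : Over S} (h : A = A) (m : M.obj.obj (op A)) :
    M.obj.map (eqToHom h).op m = m := by simp

omit hf in
theorem secOf_eq_sec {𝒜 : AlgSt.Cat S} (F : 𝒜 ⥤ᵇ AlgSt.ofSp M) (a : 𝒜.obj)
    (h : (F.obj a).base = 𝒜.p.obj a) (m : M.obj.obj (op (𝒜.p.obj a)))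
    (hm : M.obj.map (eqToHom h.symm).op (F.obj a).sec = m) : secOf F a = m := hm

theorem secOf_descFun (A : AlgSt.QuotObj K G aX) :
    secOf (descFun f hf) A = mOf f hf A := by
  exact map_eqToHom_self _ _

omit hf in
theorem secOf_ofSpMap (a : (AlgSt.ofSch X).obj) :
    secOf (AlgSt.ofSpMap f) a = fa f a.sec.down := by
  exact map_eqToHom_self _ _

theorem quotMap_descFun :
    BasedFunctor.comp (AlgSt.quotMap K G aX) (descFun f hf) = AlgSt.ofSpMap f := by
  apply basedFunctor_ext
  intro a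
  rw [secOf_ofSpMap]
  have h1 : secOf (BasedFunctor.comp (AlgSt.quotMap K G aX) (descFun f hf)) a =
      mOf f hf ((AlgSt.quotMap K G aX).obj a) := by
    exact map_eqToHom_self _ _
  rw [h1]
  symm
  refine mOf_unique f hf ((AlgSt.quotMap K G aX).obj a) (fa f a.sec.down) ?_
  intro V s
  rw [fa_comp]
  show fa f ((s ≫ snd G a.base) ≫ a.sec.down) = fa f (s ≫ (G ◁ a.sec.down) ≫ aX.act)
  rw [← Category.assoc s, fa_act f hf]
  simp

theorem descFun_unique (φ' : AlgSt.QuotSt K G aX ⥤ᵇ AlgSt.ofSp M)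
    (h : BasedFunctor.comp (AlgSt.quotMap K G aX) φ' = AlgSt.ofSpMap f) :
    φ' = descFun f hf := by
  apply basedFunctor_ext
  intro A
  rw [secOf_descFun]
  apply mOf_unique
  intro V s
  let a : (AlgSt.ofSch X).obj := ⟨V, ⟨s ≫ A.φ⟩⟩
  have h1 := secOf_map φ' (trivHom A s)
  have h2 : secOf φ' ((AlgSt.quotMap K G aX).obj a) =
      secOf (BasedFunctor.comp (AlgSt.quotMap K G aX) φ') a := rfl
  rw [h, secOf_ofSpMap] at h2
  exact h1.trans h2

end Groth.Agent.Lib.Helper28.QuotSt.Desc
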