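import Mathlib
import Groth.Agent.Lib.Helper28.QuotSt.Desc

/-!
# Quotient stacks: morphisms over isomorphisms are isomorphisms; trivialisations
-/

set_option autoImplicit false
set_option backward.isDefEq.respectTransparency false
set_option backward.isDefEq.respectTransparency.types false

universe u

open CategoryTheory CategoryTheory.Limits MonoidalCategory CartesianMonoidalCategory MonObj GrpObj
  AlgebraicGeometry Opposite

namespace Groth.Agent.Lib.Helper28.QuotSt.Iso

open Groth.Agent.Lib.Helper28.QuotSt.Basic Groth.Agent.Lib.Helper28.QuotSt.PshExt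
  Groth.Agent.Lib.Helper28.QuotSt.Desc Groth.Agent.Lib.Helper10.StkPsh

variable {S : Scheme.{u}} {K : Precoverage Scheme.{u}} {G : Over S} [GrpObj G] {X : Over S}
  {aX : AlgGrp.Action G X}

theorem isIso_top {A B : AlgSt.QuotObj K G aX} (m : A ⟶ B) [IsIso m.base] : IsIso m.top :=
  m.cart.isIso_fst_of_isIso

/-- The inverse of a morphism of `[X/G]` over an isomorphism. -/
noncomputable def invHom {A B : AlgSt.QuotObj K G aX} (m : A ⟶ B) [IsIso m.base] : B ⟶ A :=
  haveI := isIso_top m
  { base := inv m.base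
    top := inv m.top
    eqv := by
      have h := m.eqv
      rw [← cancel_mono m.top, Category.assoc, Category.assoc, IsIso.inv_hom_id, Category.comp_id,
        h, ← MonoidalCategory.whiskerLeft_comp_assoc, IsIso.inv_hom_id,
        MonoidalCategory.whiskerLeft_id, Category.id_comp]
    cart := IsPullback.of_horiz_isIso ⟨by
      rw [IsIso.inv_comp_eq, ← Category.assoc, m.cart.w, Category.assoc, IsIso.hom_inv_id,
        Category.comp_id]⟩
    wφ := by rw [IsIso.inv_comp_eq, m.wφ] }

theorem isIso_of_isIso_base {A B : AlgSt.QuotObj K G aX} (m : A ⟶ B) [IsIso m.base] : IsIso m := by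
  haveI := isIso_top m
  refine ⟨invHom m, ?_, ?_⟩
  · apply AlgSt.QuotObj.hom_ext
    · exact IsIso.hom_inv_id m.base
    · exact IsIso.hom_inv_id m.top
  · apply AlgSt.QuotObj.hom_ext
    · exact IsIso.inv_hom_id m.base
    · exact IsIso.inv_hom_id m.top

/-- A morphism in a fibre of `[X/G]` gives an isomorphism in the fibre. -/
theorem fiberIso_of_hom {T : Over S} {A B : (AlgSt.QuotSt K G aX).p.Fiber T} (m : A ⟶ B) :
    Nonempty (A ≅ B) := by
  have hm : (AlgSt.QuotSt K G aX).p.IsHomLift (𝟙 T) m.1 := m.2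
  have hb : (m.1 : A.1 ⟶ B.1).base = eqToHom A.2 ≫ 𝟙 T ≫ eqToHom B.2.symm := by
    have := @IsHomLift.fac' _ _ _ _ (AlgSt.QuotSt K G aX).p _ _ _ _ _ _ hm
    exact this
  haveI : IsIso (m.1 : A.1 ⟶ B.1).base := by rw [hb]; infer_instance
  haveI : IsIso m.1 := isIso_of_isIso_base m.1
  have hinv : (AlgSt.QuotSt K G aX).p.IsHomLift (𝟙 T) (inv m.1) := inferInstance
  exact ⟨⟨m, ⟨inv m.1, hinv⟩, Subtype.ext (IsIso.hom_inv_id m.1), Subtype.ext (IsIso.inv_hom_id m.1)⟩⟩

section Triv

variable [K.HasIsos]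

/-- `trivHom` with the point of `X` given up to equality. -/
noncomputable def trivHom' (A : AlgSt.QuotObj K G aX) {V : Over S} (s : V ⟶ A.P) (x : V ⟶ X)
    (hx : s ≫ A.φ = x) :
    (AlgSt.quotMap K G aX).obj (⟨V, ⟨x⟩⟩ : (AlgSt.ofSch X).obj) ⟶ A := by
  subst hx
  exact
  { base := s ≫ A.π
    top := (G ◁ s) ≫ A.act.act
    eqv := by
      have hμ : fst (G ⊗ G) A.P ≫ μ[G] = (fst _ _ ≫ fst G G) * (fst _ _ ≫ snd G G) := by
        rw [Hom.mul_def, ← comp_lift, lift_fst_snd, Category.comp_id]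
      have h : (AlgSt.leftMul G V).act ≫ (G ◁ s) =
          (G ◁ (G ◁ s)) ≫ (α_ G G A.P).inv ≫ (μ[G] ▷ A.P) := by
        apply CartesianMonoidalCategory.hom_ext
        · simp only [AlgSt.leftMul, Category.assoc, lift_fst, lift_snd, lift_fst_assoc, lift_snd_assoc, comp_lift, comp_mul, whiskerLeft_fst, whiskerLeft_snd, whiskerLeft_fst_assoc, whiskerLeft_snd_assoc, whiskerRight_fst, whiskerRight_snd, whiskerRight_fst_assoc, whiskerRight_snd_assoc, associator_hom_fst, associator_hom_snd_fst, associator_hom_snd_snd, associator_hom_snd_fst_assoc, associator_hom_snd_snd_assoc, associator_inv_fst_fst, associator_inv_fst_snd, associator_inv_snd, associator_inv_fst_fst_assoc, associator_inv_fst_snd_assoc, associator_inv_snd_assoc, hμ]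
        · simp only [AlgSt.leftMul, Category.assoc, lift_fst, lift_snd, lift_fst_assoc, lift_snd_assoc, comp_lift, comp_mul, whiskerLeft_fst, whiskerLeft_snd, whiskerLeft_fst_assoc, whiskerLeft_snd_assoc, whiskerRight_fst, whiskerRight_snd, whiskerRight_fst_assoc, whiskerRight_snd_assoc, associator_hom_fst, associator_hom_snd_fst, associator_hom_snd_snd, associator_hom_snd_fst_assoc, associator_hom_snd_snd_assoc, associator_inv_fst_fst, associator_inv_fst_snd, associator_inv_snd, associator_inv_fst_fst_assoc, associator_inv_fst_snd_assoc, associator_inv_snd_assoc]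
      have hm : (G ◁ A.act.act) ≫ A.act.act = (α_ G G A.P).inv ≫ (μ[G] ▷ A.P) ≫ A.act.act := by
        rw [A.act.mul_act, Iso.inv_hom_id_assoc]
      change (AlgSt.leftMul G V).act ≫ (G ◁ s) ≫ A.act.act =
        (G ◁ ((G ◁ s) ≫ A.act.act)) ≫ A.act.act
      rw [MonoidalCategory.whiskerLeft_comp, Category.assoc, hm, reassoc_of% h]
    cart := (AlgSt.isPullback_whiskerLeft s).paste_horiz A.cart
    wφ := by
      change ((G ◁ s) ≫ A.act.act) ≫ A.φ = (G ◁ (s ≫ A.φ)) ≫ aX.act
      rw [Category.assoc, A.eqv, MonoidalCategory.whiskerLeft_comp, Category.assoc] }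

theorem trivHom'_base (A : AlgSt.QuotObj K G aX) {V : Over S} (s : V ⟶ A.P) (x : V ⟶ X)
    (hx : s ≫ A.φ = x) : (trivHom' A s x hx).base = s ≫ A.π := by
  subst hx; rfl

theorem trivHom'_top (A : AlgSt.QuotObj K G aX) {V : Over S} (s : V ⟶ A.P) (x : V ⟶ X)
    (hx : s ≫ A.φ = x) : (trivHom' A s x hx).top = (G ◁ s) ≫ A.act.act := by
  subst hx; rfl

end Triv

end Groth.Agent.Lib.Helper28.QuotSt.Iso
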