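import Mathlib
import Groth.Agent.Lib.Helper28.QuotSt.Iso
import Groth.Agent.Lib.Helper10.Fib4
import Groth.Agent.Lib.Helper29.TorsorDesc
import Groth.Agent.Lib.Helper16.LocPFpqc

/-!
# Quotient stacks: cartesian lifts, and the fibre product of a point with `X ⟶ [X/G]`
-/

set_option autoImplicit false
set_option backward.isDefEq.respectTransparency false
set_option backward.isDefEq.respectTransparency.types false

universe u

open CategoryTheory CategoryTheory.Limits MonoidalCategory CartesianMonoidalCategory MonObj GrpObj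
  AlgebraicGeometry Opposite

namespace Groth.Agent.Lib.Helper28.QuotSt.Rep

open Groth.Agent.Lib.Helper28.QuotSt.Basic Groth.Agent.Lib.Helper28.QuotSt.Iso

variable {S : Scheme.{u}} {K : Precoverage Scheme.{u}} {G : Over S} [GrpObj G] {X : Over S}
  {aX : AlgGrp.Action G X}

section Lift

variable {A B C : AlgSt.QuotObj K G aX} (φ : B ⟶ A) (ψ : C ⟶ A) (g : C.base ⟶ B.base)
  (hg : g ≫ φ.base = ψ.base)

/-- The top of the unique lift. -/
noncomputable def liftTop : C.P ⟶ B.P :=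
  φ.cart.lift ψ.top (C.π ≫ g) (by rw [ψ.cart.w, Category.assoc, hg])

theorem liftTop_top : liftTop φ ψ g hg ≫ φ.top = ψ.top := φ.cart.lift_fst _ _ _

theorem liftTop_π : liftTop φ ψ g hg ≫ B.π = C.π ≫ g := φ.cart.lift_snd _ _ _

/-- Every morphism of `[X/G]` is strongly cartesian: the lift. -/
noncomputable def liftHom : C ⟶ B where
  base := g
  top := liftTop φ ψ g hg
  eqv := by
    apply φ.cart.hom_ext
    · rw [Category.assoc, liftTop_top, ψ.eqv, Category.assoc, φ.eqv,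
        ← MonoidalCategory.whiskerLeft_comp_assoc, liftTop_top]
    · rw [Category.assoc, liftTop_π, Category.assoc, B.cart.w, whiskerLeft_snd_assoc, liftTop_π,
        ← Category.assoc, ← Category.assoc, C.cart.w]
  cart := IsPullback.of_right (by rw [liftTop_top]; exact hg ▸ ψ.cart) (liftTop_π φ ψ g hg) φ.cart
  wφ := by rw [← φ.wφ, ← Category.assoc, liftTop_top, ψ.wφ]

theorem liftHom_base : (liftHom φ ψ g hg).base = g := rfl

theorem liftHom_comp : liftHom φ ψ g hg ≫ φ = ψ :=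
  AlgSt.QuotObj.hom_ext hg (liftTop_top φ ψ g hg)

theorem hom_eq_of_comp_eq {χ χ' : C ⟶ B} (h : χ ≫ φ = χ' ≫ φ) (hb : χ.base = χ'.base) : χ = χ' := by
  apply AlgSt.QuotObj.hom_ext hb
  apply φ.cart.hom_ext
  · exact congrArg AlgSt.QuotObj.Hom.top h
  · rw [χ.cart.w, χ'.cart.w, hb]

end Lift

section Fp

/-- the trivial torsor at a point -/
noncomputable abbrev tv [K.HasIsos] (aX : AlgGrp.Action G X) {V : Over S} (x : V ⟶ X) :
    AlgSt.QuotObj K G aX :=
  (AlgSt.quotMap K G aX).obj (⟨V, ⟨x⟩⟩ : (AlgSt.ofSch X).obj)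

variable {U : Over S} (y : FibCat.overCat U ⥤ᵇ AlgSt.QuotSt K G aX)

/-- The torsor classified by `y`. -/
noncomputable def tors : AlgSt.QuotObj K G aX := y.obj (Over.mk (𝟙 U))

theorem bEq (g : Over U) : (y.obj g).base = g.left := y.w_obj g

theorem tors_base : (tors y).base = U := bEq y (Over.mk (𝟙 U))

/-- The structure map of the torsor, with target `U`. -/
noncomputable def πU : (tors y).P ⟶ U := (tors y).π ≫ eqToHom (tors_base y)

theorem map_base {g' g : Over U} (k : g' ⟶ g) :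
    (y.map k).base = eqToHom (bEq y g') ≫ k.left ≫ eqToHom (bEq y g).symm := by
  haveI : (FibCat.overCat U).p.IsHomLift ((FibCat.overCat U).p.map k) k := inferInstance
  haveI : (AlgSt.QuotSt K G aX).p.IsHomLift ((FibCat.overCat U).p.map k) (y.map k) :=
    BasedFunctor.preserves_isHomLift y _ k
  exact IsHomLift.fac' (AlgSt.QuotSt K G aX).p ((FibCat.overCat U).p.map k) (y.map k)

/-- The canonical morphism `y g ⟶ A`. -/
noncomputable def cHom (g : Over U) : y.obj g ⟶ tors y :=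
  y.map (Over.homMk g.hom (by simp) : g ⟶ Over.mk (𝟙 U))

theorem cHom_base (g : Over U) :
    (cHom y g).base = eqToHom (bEq y g) ≫ g.hom ≫ eqToHom (tors_base y).symm :=
  map_base y _

theorem map_cHom {g' g : Over U} (k : g' ⟶ g) : y.map k ≫ cHom y g = cHom y g' := by
  unfold cHom
  rw [← y.map_comp]
  congr 1
  apply Over.OverMorphism.ext
  rw [Over.comp_left]
  exact Over.w k

variable [K.HasIsos]

/-- The trivialisation attached to a point of the torsor. -/
noncomputable def dHom {T : Over S} (s : T ⟶ (tors y).P) : tv aX (s ≫ (tors y).φ) ⟶ tors y :=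
  trivHom' (tors y) s _ rfl

theorem dHom_base {T : Over S} (s : T ⟶ (tors y).P) : (dHom y s).base = s ≫ (tors y).π :=
  trivHom'_base _ _ _ _

theorem dHom_top {T : Over S} (s : T ⟶ (tors y).P) :
    (dHom y s).top = (G ◁ s) ≫ (tors y).act.act :=
  trivHom'_top _ _ _ _

theorem eHom_aux {T : Over S} (s : T ⟶ (tors y).P) :
    eqToHom (bEq y (Over.mk (s ≫ πU y))) ≫ (dHom y s).base = (cHom y (Over.mk (s ≫ πU y))).base := by
  rw [dHom_base, cHom_base]
  simp [πU]

/-- The component of the 2-isomorphism. -/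
noncomputable def eHom {T : Over S} (s : T ⟶ (tors y).P) :
    y.obj (Over.mk (s ≫ πU y)) ⟶ tv aX (s ≫ (tors y).φ) :=
  liftHom (dHom y s) (cHom y (Over.mk (s ≫ πU y))) (eqToHom (bEq y _)) (eHom_aux y s)

theorem eHom_base {T : Over S} (s : T ⟶ (tors y).P) :
    (eHom y s).base = eqToHom (bEq y (Over.mk (s ≫ πU y))) := rfl

theorem eHom_comp {T : Over S} (s : T ⟶ (tors y).P) :
    eHom y s ≫ dHom y s = cHom y (Over.mk (s ≫ πU y)) :=
  liftHom_comp _ _ _ _

instance {T : Over S} (s : T ⟶ (tors y).P) : IsIso (eHom y s) := by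
  haveI : IsIso (eHom y s).base := by rw [eHom_base]; infer_instance
  exact isIso_of_isIso_base _

attribute [irreducible] eHom dHom cHom

/-- `(T, s) ↦ (T, s ≫ π)` -/
noncomputable abbrev m₁ : AlgSt.ofSch (tors y).P ⥤ᵇ FibCat.overCat U :=
  BasedFunctor.comp (AlgSt.ofSpMap ((AlgSp.yon S).map (πU y))) (AlgSt.toOverCat U)

/-- `(T, s) ↦ (T, s ≫ φ)` -/
noncomputable abbrev m₂ : AlgSt.ofSch (tors y).P ⥤ᵇ FibCat.overCat X :=
  BasedFunctor.comp (AlgSt.ofSpMap ((AlgSp.yon S).map (tors y).φ)) (AlgSt.toOverCat X)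

/-- `X ⟶ [X/G]` on the slice -/
noncomputable abbrev qm (K : Precoverage Scheme.{u}) [K.HasIsos] (aX : AlgGrp.Action G X) :
    FibCat.overCat X ⥤ᵇ AlgSt.QuotSt K G aX :=
  BasedFunctor.comp (AlgSt.ofOverCat X) (AlgSt.quotMap K G aX)

omit [GrpObj G] in
theorem sec_of_hom {Z : Over S} {w' w : (AlgSt.ofSch Z).obj} (k : w' ⟶ w) :
    k.hom ≫ w.sec.down = w'.sec.down :=
  congrArg ULift.down k.map_sec

/-- the component of the 2-isomorphism -/
noncomputable def eApp (w : (AlgSt.ofSch (tors y).P).obj) :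
    (BasedFunctor.comp (m₁ y) y).obj w ⟶ (BasedFunctor.comp (m₂ y) (qm K aX)).obj w :=
  eHom y w.sec.down

instance (w : (AlgSt.ofSch (tors y).P).obj) : IsIso (eApp y w) :=
  inferInstanceAs (IsIso (eHom y w.sec.down))

theorem eApp_base (w : (AlgSt.ofSch (tors y).P).obj) :
    (eApp y w).base = eqToHom (bEq y (Over.mk (w.sec.down ≫ πU y))) :=
  eHom_base y w.sec.down

theorem tvMap_dHom {w' w : (AlgSt.ofSch (tors y).P).obj} (k : w' ⟶ w) :
    (BasedFunctor.comp (m₂ y) (qm K aX)).map k ≫ dHom y w.sec.down = dHom y w'.sec.down := by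
  apply AlgSt.QuotObj.hom_ext
  · show k.hom ≫ (dHom y w.sec.down).base = (dHom y w'.sec.down).base
    rw [dHom_base, dHom_base, ← sec_of_hom k, Category.assoc]
  · show (G ◁ k.hom) ≫ (dHom y w.sec.down).top = (dHom y w'.sec.down).top
    rw [dHom_top, dHom_top, ← sec_of_hom k, MonoidalCategory.whiskerLeft_comp, Category.assoc]

theorem eApp_comp (w : (AlgSt.ofSch (tors y).P).obj) :
    eApp y w ≫ dHom y w.sec.down = cHom y ((m₁ y).obj w) :=
  eHom_comp y w.sec.down

theorem eApp_naturality {w' w : (AlgSt.ofSch (tors y).P).obj} (k : w' ⟶ w) :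
    (BasedFunctor.comp (m₁ y) y).map k ≫ eApp y w =
      eApp y w' ≫ (BasedFunctor.comp (m₂ y) (qm K aX)).map k := by
  apply hom_eq_of_comp_eq (dHom y w.sec.down)
  · rw [Category.assoc, Category.assoc, tvMap_dHom, eApp_comp, eApp_comp]
    exact map_cHom y ((m₁ y).map k)
  · show (y.map ((m₁ y).map k)).base ≫ (eApp y w).base = (eApp y w').base ≫ k.hom
    rw [map_base, eApp_base, eApp_base]
    show (eqToHom _ ≫ k.hom ≫ eqToHom _) ≫ eqToHom _ = eqToHom _ ≫ k.hom
    simp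

theorem eApp_isHomLift (w : (AlgSt.ofSch (tors y).P).obj) :
    (AlgSt.QuotSt K G aX).p.IsHomLift (𝟙 ((AlgSt.ofSch (tors y).P).p.obj w)) (eApp y w) := by
  refine IsHomLift.of_fac' _ _ _ (bEq y ((m₁ y).obj w)) rfl ?_
  show (eApp y w).base = _
  rw [eApp_base]
  simp

/-- the underlying natural isomorphism -/
noncomputable def eNatIso :
    (BasedFunctor.comp (m₁ y) y).toFunctor ≅ (BasedFunctor.comp (m₂ y) (qm K aX)).toFunctor :=
  NatIso.ofComponents (fun w => asIso (eApp y w)) (fun k => eApp_naturality y k)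

/-- The 2-isomorphism. -/
noncomputable def eIso :
    BasedFunctor.comp (m₁ y) y ≅ BasedFunctor.comp (m₂ y) (qm K aX) :=
  BasedNatIso.mkNatIso (eNatIso y) (fun w => eApp_isHomLift y w)

theorem eIso_hom_app (w : (AlgSt.ofSch (tors y).P).obj) :
    (eIso y).hom.toNatTrans.app w = eApp y w := rfl

/-- the comparison functor -/
noncomputable abbrev M : AlgSt.ofSch (tors y).P ⥤ᵇ FibCat.fp y (qm K aX) :=
  FibCat.fpLift (m₁ y) (m₂ y) (eIso y)

theorem M_iso_hom (w : (AlgSt.ofSch (tors y).P).obj) : ((M y).obj w).obj.iso.hom = eApp y w := rfl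

instance : (M y).toFunctor.Faithful where
  map_injective {w' w} k k' h := by
    apply Stk.EltObj.hom_ext
    have := congrArg (fun m => m.hom.fst.left) h
    exact this

omit [K.HasIsos] in
theorem lift_one_act {Z : Over S} (a : AlgGrp.Action G Z) {V : Over S} (p : V ⟶ Z) :
    lift (1 : V ⟶ G) p ≫ a.act = p := by
  have h : lift (1 : V ⟶ G) p = lift (toUnit V) p ≫ (η[G] ▷ Z) := by
    apply CartesianMonoidalCategory.hom_ext
    · simp [Hom.one_def]
    · simp
  rw [h, Category.assoc, a.one_act]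
  simp

theorem sec_eq_of_dHom_eq {T' T : Over S} (k : T' ⟶ T) (s : T ⟶ (tors y).P) (s' : T' ⟶ (tors y).P)
    (h : (G ◁ k) ≫ (dHom y s).top = (dHom y s').top) : k ≫ s = s' := by
  rw [dHom_top, dHom_top] at h
  have h2 := congrArg (fun t => lift (1 : T' ⟶ G) (𝟙 T') ≫ t) h
  simp only [← Category.assoc] at h2
  have e1 : (lift (1 : T' ⟶ G) (𝟙 T') ≫ (G ◁ k)) ≫ (G ◁ s) = lift (1 : T' ⟶ G) (k ≫ s) := by
    apply CartesianMonoidalCategory.hom_ext <;> simp
  have e2 : lift (1 : T' ⟶ G) (𝟙 T') ≫ (G ◁ s') = lift (1 : T' ⟶ G) s' := by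
    apply CartesianMonoidalCategory.hom_ext <;> simp
  rw [e1, e2, lift_one_act, lift_one_act] at h2
  exact h2

theorem full_aux {w' w : (AlgSt.ofSch (tors y).P).obj} (h : (M y).obj w' ⟶ (M y).obj w) :
    h.hom.fst.left = h.hom.snd.left ∧ h.hom.fst.left ≫ w.sec.down = w'.sec.down := by
  have hw : y.map h.hom.fst ≫ eApp y w = eApp y w' ≫ (qm K aX).map h.hom.snd := h.hom.w
  have hbase : (y.map h.hom.fst).base ≫ (eApp y w).base =
      (eApp y w').base ≫ h.hom.snd.left := congrArg AlgSt.QuotObj.Hom.base hw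
  have hb : h.hom.fst.left = h.hom.snd.left := by
    rw [map_base, eApp_base, eApp_base] at hbase
    have h3 : eqToHom (bEq y ((m₁ y).obj w')) ≫ h.hom.fst.left =
        eqToHom (bEq y ((m₁ y).obj w')) ≫ h.hom.snd.left := by
      simpa using hbase
    exact (cancel_epi _).1 h3
  refine ⟨hb, ?_⟩
  have h1 : eApp y w' ≫ ((qm K aX).map h.hom.snd ≫ dHom y w.sec.down) =
      eApp y w' ≫ dHom y w'.sec.down := by
    rw [← Category.assoc, ← hw, Category.assoc, eApp_comp, eApp_comp]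
    exact map_cHom y h.hom.fst
  have h2 : (qm K aX).map h.hom.snd ≫ dHom y w.sec.down = dHom y w'.sec.down :=
    (cancel_epi _).1 h1
  have h3 : (G ◁ h.hom.snd.left) ≫ (dHom y w.sec.down).top = (dHom y w'.sec.down).top :=
    congrArg AlgSt.QuotObj.Hom.top h2
  rw [hb]
  exact sec_eq_of_dHom_eq y _ _ _ h3

instance : (M y).toFunctor.Full where
  map_surjective {w' w} h := by
    obtain ⟨hb, hsec⟩ := full_aux y h
    refine ⟨⟨h.hom.fst.left, congrArg ULift.up hsec⟩, ?_⟩
    apply ObjectProperty.hom_ext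
    apply CategoricalPullback.hom_ext
    · exact Over.OverMorphism.ext rfl
    · exact Over.OverMorphism.ext hb

section TrivMor

variable {A : AlgSt.QuotObj K G aX} {T : Over S} {x : T ⟶ X} (d : tv aX x ⟶ A)

/-- the point of `A.P` determined by a morphism from a trivial torsor -/
noncomputable def ptOf : T ⟶ A.P := lift (1 : T ⟶ G) (𝟙 T) ≫ d.top

theorem ptOf_φ : ptOf d ≫ A.φ = x := by
  have h' : d.top ≫ A.φ = (G ◁ x) ≫ aX.act := d.wφ
  unfold ptOf
  rw [Category.assoc, h', ← Category.assoc]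
  have e : lift (1 : T ⟶ G) (𝟙 T) ≫ (G ◁ x) = lift (1 : T ⟶ G) x := by
    apply CartesianMonoidalCategory.hom_ext <;> simp
  rw [e, lift_one_act]

theorem ptOf_π : ptOf d ≫ A.π = d.base := by
  have h : d.top ≫ A.π = snd G T ≫ d.base := d.cart.w
  unfold ptOf
  rw [Category.assoc, h, ← Category.assoc, lift_snd, Category.id_comp]

omit [K.HasIsos] in
theorem top_eq_aux {Z : Over S} (a : AlgGrp.Action G Z) {T : Over S} (D : G ⊗ T ⟶ Z)
    (heqv : (AlgSt.leftMul G T).act ≫ D = (G ◁ D) ≫ a.act) :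
    D = (G ◁ (lift (1 : T ⟶ G) (𝟙 T) ≫ D)) ≫ a.act := by
  have hj : lift (fst G T) (lift (1 : G ⊗ T ⟶ G) (snd G T)) ≫ (AlgSt.leftMul G T).act = 𝟙 _ := by
    apply CartesianMonoidalCategory.hom_ext <;> simp [AlgSt.leftMul, comp_mul]
  have h2 := congrArg (fun t => lift (fst G T) (lift (1 : G ⊗ T ⟶ G) (snd G T)) ≫ t) heqv
  simp only [← Category.assoc] at h2
  rw [hj, Category.id_comp] at h2
  have h5 : lift (1 : G ⊗ T ⟶ G) (snd G T) = snd G T ≫ lift (1 : T ⟶ G) (𝟙 T) := by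
    apply CartesianMonoidalCategory.hom_ext <;> simp
  have h6 : lift (fst G T) (lift (1 : G ⊗ T ⟶ G) (snd G T)) ≫ (G ◁ D) =
      G ◁ (lift (1 : T ⟶ G) (𝟙 T) ≫ D) := by
    apply CartesianMonoidalCategory.hom_ext
    · simp
    · rw [Category.assoc, whiskerLeft_snd, lift_snd_assoc, whiskerLeft_snd, h5, Category.assoc]
  rw [h6] at h2
  exact h2

theorem top_eq : d.top = (G ◁ ptOf d) ≫ A.act.act :=
  top_eq_aux A.act d.top d.eqv

end TrivMor

theorem ess (z : (FibCat.fp y (qm K aX)).obj) :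
    ∃ (w : (AlgSt.ofSch (tors y).P).obj) (e : (M y).obj w ≅ z),
      (FibCat.fp y (qm K aX)).p.IsHomLift (𝟙 ((FibCat.fp y (qm K aX)).p.obj z)) e.hom := by
  obtain ⟨⟨g, b, θ⟩, hz⟩ := z
  obtain ⟨θh, hθh⟩ : ∃ θh : y.obj g ⟶ tv aX b.hom, θh = θ.hom := ⟨_, rfl⟩
  obtain ⟨θi, hθi⟩ : ∃ θi : tv aX b.hom ⟶ y.obj g, θi = θ.inv := ⟨_, rfl⟩
  have hθ1 : θh ≫ θi = 𝟙 _ := by rw [hθh, hθi]; exact θ.hom_inv_id
  obtain ⟨d, hd⟩ : ∃ d : tv aX b.hom ⟶ tors y, d = θi ≫ cHom y g := ⟨_, rfl⟩
  haveI : IsIso θh.base := by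
    rw [hθh]; exact inferInstanceAs (IsIso ((AlgSt.QuotSt K G aX).p.map θ.hom))
  obtain ⟨β, hβ⟩ : ∃ β : g.left ⟶ b.left, β = eqToHom (bEq y g).symm ≫ θh.base := ⟨_, rfl⟩
  haveI : IsIso β := by rw [hβ]; infer_instance
  obtain ⟨s, hs⟩ : ∃ s : g.left ⟶ (tors y).P, s = β ≫ ptOf d := ⟨_, rfl⟩
  have hinv : θh.base ≫ θi.base = 𝟙 _ := congrArg AlgSt.QuotObj.Hom.base hθ1
  have hdbase : θh.base ≫ d.base =
      eqToHom (bEq y g) ≫ g.hom ≫ eqToHom (tors_base y).symm := by
    rw [hd]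
    show θh.base ≫ θi.base ≫ (cHom y g).base = _
    rw [reassoc_of% hinv, cHom_base]
  have h1 : s ≫ πU y = g.hom := by
    rw [hs]
    show (β ≫ ptOf d) ≫ (tors y).π ≫ eqToHom (tors_base y) = g.hom
    rw [Category.assoc, ← Category.assoc (ptOf d), ptOf_π, hβ, Category.assoc,
      reassoc_of% hdbase]
    simp
  have h2 : β ≫ b.hom = s ≫ (tors y).φ := by
    rw [hs, Category.assoc, ptOf_φ]
  let w : (AlgSt.ofSch (tors y).P).obj := ⟨g.left, ⟨s⟩⟩
  let i₁ : (m₁ y).obj w ≅ g := Over.isoMk (Iso.refl _) (by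
    show 𝟙 _ ≫ g.hom = s ≫ πU y
    rw [h1, Category.id_comp])
  let i₂ : (m₂ y).obj w ≅ b := Over.isoMk (asIso β) h2
  have hw : y.map i₁.hom ≫ θ.hom = eApp y w ≫ (qm K aX).map i₂.hom := by
    rw [← hθh]
    apply hom_eq_of_comp_eq d
    · have e1 : (y.map i₁.hom ≫ θh) ≫ d = cHom y ((m₁ y).obj w) := by
        rw [hd, Category.assoc, reassoc_of% hθ1]
        exact map_cHom y i₁.hom
      have e2 : (qm K aX).map i₂.hom ≫ d = dHom y s := by
        apply AlgSt.QuotObj.hom_ext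
        · show β ≫ d.base = (dHom y s).base
          rw [dHom_base, ← ptOf_π d, hs, Category.assoc]
        · show (G ◁ β) ≫ d.top = (dHom y s).top
          rw [dHom_top, top_eq d, hs, ← Category.assoc, ← MonoidalCategory.whiskerLeft_comp]
      rw [Category.assoc (eApp y w), e2]
      exact e1.trans (eApp_comp y w).symm
    · show (y.map i₁.hom).base ≫ θh.base = (eApp y w).base ≫ β
      rw [map_base, eApp_base, hβ]
      show (eqToHom _ ≫ 𝟙 _ ≫ eqToHom _) ≫ θh.base = eqToHom _ ≫ eqToHom _ ≫ θh.base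
      simp
  refine ⟨w, (FibCat.fpProp _ _).isoMk (X := (M y).obj w) (CategoricalPullback.mkIso i₁ i₂ hw), ?_⟩
  refine IsHomLift.of_fac' _ _ _ rfl rfl ?_
  show 𝟙 g.left = eqToHom rfl ≫ 𝟙 g.left ≫ eqToHom rfl
  simp

theorem isEquivOver_M : FibCat.IsEquivOver (M y) :=
  Groth.Agent.Lib.Helper10.Fib.isEquivOver_of_ff (M y) (ess y)

theorem secHom_M (w : (AlgSt.ofSch (tors y).P).obj) :
    AlgSt.secHom (F := (AlgSp.yon S).obj (tors y).P)
      (BasedFunctor.comp (M y) (FibCat.fpFst y (qm K aX))) w = w.sec.down ≫ πU y := by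
  unfold AlgSt.secHom
  show eqToHom _ ≫ (w.sec.down ≫ πU y) = _
  simp

theorem spMapOfOver_M :
    AlgSt.spMapOfOver (F := (AlgSp.yon S).obj (tors y).P)
      (BasedFunctor.comp (M y) (FibCat.fpFst y (qm K aX))) = (AlgSp.yon S).map (πU y) := by
  apply ObjectProperty.hom_ext
  ext T x
  induction T using Opposite.rec with | _ T => ?_
  have h := AlgSt.spMapOfOver_app (F := (AlgSp.yon S).obj (tors y).P)
    (BasedFunctor.comp (M y) (FibCat.fpFst y (qm K aX))) T x
  refine h.trans ?_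
  rw [secHom_M]
  rfl

/-- `X ⟶ [X/G]` is representable by the total spaces of the torsors, with any property that the
structure maps of torsors have. -/
theorem repByAlgSpWith_qm (Q : MorphismProperty (AlgSp.Sp S))
    (hQ : ∀ (A : AlgSt.QuotObj K G aX) (U : Over S) (h : A.base = U),
      Q ((AlgSp.yon S).map (A.π ≫ eqToHom h))) :
    AlgSt.RepByAlgSpWith Q (qm K aX) := by
  intro U y
  refine ⟨⟨(AlgSp.yon S).obj (tors y).P, AlgSp.IsAlgSpace.yon_obj _⟩, M y, isEquivOver_M y, ?_⟩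
  rw [spMapOfOver_M]
  exact hQ _ _ _

end Fp

/-- Properties of `G ⟶ S` that are fpqc local on the base pass to the structure maps of
`G`-torsors. -/
theorem π_prop (P : MorphismProperty Scheme.{u}) [P.IsStableUnderBaseChange] [IsZariskiLocalAtTarget P]
    [P.DescendsAlong (@Surjective ⊓ @Flat ⊓ @QuasiCompact : MorphismProperty Scheme.{u})]
    (A : AlgSt.QuotObj Scheme.fppfPrecoverage G aX) (hG : P G.hom) : P A.π.left := by
  obtain ⟨R, hR, hsec⟩ := A.loc
  have hR' : R ∈ Scheme.fpqcPrecoverage A.base.left := Scheme.fppfPrecoverage_le_fpqcPrecoverage _ hR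
  have hself : P (pullback.snd A.π.left A.π.left) := by
    have sq : IsPullback A.act.act.left (snd G A.P).left A.π.left A.π.left :=
      A.cart.map (Over.forget S)
    have h1 : P (snd G A.P).left := P.pullback_snd _ _ hG
    exact Groth.Agent.Lib.Helper16.P_snd_of_isPullback (IsPullback.of_hasPullback _ _) sq h1
  refine Groth.Agent.Lib.Helper29.TorsorDesc.of_fpqc P A.π.left hR' (fun {V} g hg => ?_)
  obtain ⟨s, hs⟩ := hsec g hg
  have hs' : s ≫ A.π.left = g := hs
  subst hs'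
  exact Groth.Agent.Lib.Helper29.TorsorDesc.snd_comp P A.π.left A.π.left s hself

theorem π_prop' (P : MorphismProperty Scheme.{u}) [P.IsStableUnderBaseChange] [IsZariskiLocalAtTarget P]
    [P.DescendsAlong (@Surjective ⊓ @Flat ⊓ @QuasiCompact : MorphismProperty Scheme.{u})]
    (A : AlgSt.QuotObj Scheme.fppfPrecoverage G aX) (hG : P G.hom) (U : Over S) (h : A.base = U) :
    P (A.π ≫ eqToHom h).left := by
  subst h
  simpa using π_prop P A hG

end Groth.Agent.Lib.Helper28.QuotSt.Rep
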