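import Mathlib
import Groth.Agent.Lib.Helper28.QuotSt.Rep
import Groth.Agent.Lib.Helper16.AlgSt.LocQOne
import Groth.Agent.Lib.Helper16.SmoothEt

/-!
# `X ⟶ [X/G]` is representable with the fpqc-local properties of `G ⟶ S`
-/

set_option autoImplicit false
set_option backward.isDefEq.respectTransparency false
set_option backward.isDefEq.respectTransparency.types false

universe u

open CategoryTheory CategoryTheory.Limits MonoidalCategory CartesianMonoidalCategory MonObj GrpObj
  AlgebraicGeometry Opposite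

namespace Groth.Agent.Lib.Helper28.QuotSt.RepProps

open Groth.Agent.Lib.Helper28.QuotSt.Rep

variable {S : Scheme.{u}} {G : Over S} [GrpObj G] {X : Over S} (aX : AlgGrp.Action G X)

theorem isSurjectiveMor_yon_map {T U : Over S} (h : T ⟶ U) (hs : Surjective h.left) :
    AlgSp.IsSurjectiveMor ((AlgSp.yon S).map h) := by
  intro x
  obtain ⟨u, rfl⟩ := (AlgSp.Points.schemeHomeo U).surjective x
  obtain ⟨t, rfl⟩ := hs.surj u
  exact ⟨AlgSp.Points.schemeHomeo T t, AlgSp.Points.map_yon_map_apply h t⟩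

/-- `X ⟶ [X/G]` has every property of `G ⟶ S` that is etale local on source and target and
fpqc local on the base. -/
theorem repByAlgSpWith_qm_locP (P₀ : MorphismProperty Scheme.{u}) [P₀.IsStableUnderBaseChange]
    [IsZariskiLocalAtTarget P₀]
    [P₀.DescendsAlong (@Surjective ⊓ @Flat ⊓ @QuasiCompact : MorphismProperty Scheme.{u})]
    (hP₀ : Groth.Agent.Lib.Helper16.EtLocalST P₀) (hG : P₀ G.hom) :
    AlgSt.RepByAlgSpWith (AlgSp.LocP P₀) (qm Scheme.fppfPrecoverage aX) :=
  repByAlgSpWith_qm _ (fun A U h =>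
    Groth.Agent.Lib.Helper16.AlgStDC.locP_yon_of hP₀ _ (π_prop' P₀ A hG U h))

/-- `X ⟶ [X/G]` is surjective. -/
theorem repByAlgSpWith_qm_surjective :
    AlgSt.RepByAlgSpWith AlgSp.IsSurjectiveMor (qm Scheme.fppfPrecoverage aX) :=
  repByAlgSpWith_qm _ (fun A U h =>
    isSurjectiveMor_yon_map _
      (π_prop' @Surjective A (Groth.Agent.Lib.Helper29.TorsorDesc.surjective_of_grp G) U h))

theorem repByAlgSpWith_qm_flat [Flat G.hom] :
    AlgSt.RepByAlgSpWith (AlgSp.LocP @Flat) (qm Scheme.fppfPrecoverage aX) :=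
  repByAlgSpWith_qm_locP aX @Flat Groth.Agent.Lib.Helper16.etLocalST_flat inferInstance

theorem repByAlgSpWith_qm_lfp [LocallyOfFinitePresentation G.hom] :
    AlgSt.RepByAlgSpWith (AlgSp.LocP @LocallyOfFinitePresentation)
      (qm Scheme.fppfPrecoverage aX) :=
  repByAlgSpWith_qm_locP aX @LocallyOfFinitePresentation
    Groth.Agent.Lib.Helper16.etLocalST_locallyOfFinitePresentation inferInstance

theorem repByAlgSpWith_qm_smooth [Smooth G.hom] :
    AlgSt.RepByAlgSpWith (AlgSp.LocP @Smooth) (qm Scheme.fppfPrecoverage aX) :=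
  repByAlgSpWith_qm_locP aX @Smooth Groth.Agent.Lib.Helper16.etLocalST_smooth inferInstance

omit aX in
theorem smooth_of_isTorsorFor_fpqc {P : Over S} (a : AlgGrp.Action G P) [Smooth G.hom]
    (h : NonAbH1.IsTorsorFor Scheme.fpqcPrecoverage a) : Smooth P.hom :=
  Groth.Agent.Lib.Helper29.TorsorDesc.hom_of_isTorsorFor_fpqc @Smooth a h inferInstance

end Groth.Agent.Lib.Helper28.QuotSt.RepProps
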