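import Mathlib
import Groth.Prelude.Def_StCoarse
import Groth.Agent.Lib.Helper28.QuotSt.Iso
import Groth.Agent.Lib.Helper28.AlgSt.PshFun
import Groth.Agent.Lib.Helper28.Gerb.Coarse

/-!
# Coarse moduli of quotient stacks
-/

set_option autoImplicit false
set_option backward.isDefEq.respectTransparency false
set_option backward.isDefEq.respectTransparency.types false

universe u

open CategoryTheory CategoryTheory.Limits MonoidalCategory CartesianMonoidalCategory MonObj GrpObj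
  AlgebraicGeometry Opposite

namespace Groth.Agent.Lib.Helper28.QuotSt.Coarse

open Groth.Agent.Lib.Helper28.QuotSt.Basic Groth.Agent.Lib.Helper28.QuotSt.PshExt
  Groth.Agent.Lib.Helper28.QuotSt.Desc Groth.Agent.Lib.Helper10.StkPsh
  Groth.Agent.Lib.Helper28.QuotSt.Iso Groth.Agent.Lib.Helper28.AlgSt.PshFun

variable {S : Scheme.{u}} {G : Over S} [GrpObj G] {X Y : Over S} {aX : AlgGrp.Action G X}

local notation "K" => Scheme.fppfPrecoverage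

theorem eq_of_iso {𝒜 : AlgSt.Cat S} {N : AlgSp.Sp S} {F F' : 𝒜 ⥤ᵇ AlgSt.ofSp N}
    (h : Nonempty (F ≅ F')) : F = F' :=
  basedFunctor_ext F F' (fun a => secOf_eq_of_hom h.some.hom a)

theorem ofSpMap_injective {F N : AlgSp.Sp S} {a b : F ⟶ N}
    (h : AlgSt.ofSpMap a = AlgSt.ofSpMap b) : a = b := by
  apply Sheaf.hom_ext
  rw [← pshMapOf_ofPshMap a.hom, ← pshMapOf_ofPshMap b.hom]
  exact congrArg pshMapOf h

theorem ofSpMap_comp {F N N' : AlgSp.Sp S} (a : F ⟶ N) (b : N ⟶ N') :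
    AlgSt.ofSpMap (a ≫ b) = BasedFunctor.comp (AlgSt.ofSpMap a) (AlgSt.ofSpMap b) := rfl

/-- The sheaf map `h_X ⟶ N` induced by a functor `[X/G] ⟶ N`. -/
noncomputable def psiOf {N : AlgSp.Sp S} (φ : AlgSt.QuotSt K G aX ⥤ᵇ AlgSt.ofSp N) :
    (AlgSp.yon S).obj X ⟶ N :=
  ObjectProperty.homMk (pshMapOf (BasedFunctor.comp (AlgSt.quotMap K G aX) φ))

theorem ofSpMap_psiOf {N : AlgSp.Sp S} (φ : AlgSt.QuotSt K G aX ⥤ᵇ AlgSt.ofSp N) :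
    BasedFunctor.comp (AlgSt.quotMap K G aX) φ = AlgSt.ofSpMap (psiOf φ) :=
  eq_of_iso ⟨isoPshMapOf _⟩

theorem fa_psiOf {N : AlgSp.Sp S} (φ : AlgSt.QuotSt K G aX ⥤ᵇ AlgSt.ofSp N) {V : Over S}
    (x : V ⟶ X) :
    fa (psiOf φ) x = secOf φ ((AlgSt.quotMap K G aX).obj (⟨V, ⟨x⟩⟩ : (AlgSt.ofSch X).obj)) := rfl

theorem secOf_quotMap_act {N : AlgSp.Sp S} (φ : AlgSt.QuotSt K G aX ⥤ᵇ AlgSt.ofSp N)
    {V : Over S} (a : V ⟶ G ⊗ X) :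
    secOf φ ((AlgSt.quotMap K G aX).obj (⟨V, ⟨a ≫ aX.act⟩⟩ : (AlgSt.ofSch X).obj)) =
      secOf φ ((AlgSt.quotMap K G aX).obj (⟨V, ⟨a ≫ snd G X⟩⟩ : (AlgSt.ofSch X).obj)) := by
  let A := (AlgSt.quotMap K G aX).obj (⟨V, ⟨a ≫ snd G X⟩⟩ : (AlgSt.ofSch X).obj)
  let s : V ⟶ A.P := lift (a ≫ fst G X) (𝟙 V)
  have hx : s ≫ A.φ = a ≫ aX.act := by
    show lift (a ≫ fst G X) (𝟙 V) ≫ (G ◁ (a ≫ snd G X)) ≫ aX.act = a ≫ aX.act
    rw [← Category.assoc]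
    congr 1
    apply CartesianMonoidalCategory.hom_ext <;> simp
  have h1 := secOf_map φ (trivHom' A s _ hx)
  have hb : (AlgSt.QuotSt K G aX).p.map (trivHom' A s _ hx) = 𝟙 V := by
    show (trivHom' A s _ hx).base = 𝟙 V
    rw [trivHom'_base]
    exact lift_snd _ _
  rw [hb] at h1
  rw [← h1]
  show N.obj.map (𝟙 V).op (secOf φ A) = secOf φ A
  rw [op_id, N.obj.map_id]
  rfl

theorem inv_psiOf {N : AlgSp.Sp S} (φ : AlgSt.QuotSt K G aX ⥤ᵇ AlgSt.ofSp N) :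
    Inv (psiOf φ) aX := by
  apply Sheaf.hom_ext
  apply NatTrans.ext
  funext V
  ext ⟨a⟩
  exact secOf_quotMap_act φ a

theorem isCatModuliIn (C : ObjectProperty (AlgSp.Sp S)) (f : X ⟶ Y)
    (hY : C ((AlgSp.yon S).obj Y))
    (hcat : ∀ (N : AlgSp.Sp S), C N → ∀ (ψ : (AlgSp.yon S).obj X ⟶ N), Inv ψ aX →
        ∃! χ : (AlgSp.yon S).obj Y ⟶ N, (AlgSp.yon S).map f ≫ χ = ψ)
    (π : AlgSt.QuotSt K G aX ⥤ᵇ AlgSt.ofSch Y)
    (hπ : BasedFunctor.comp (AlgSt.quotMap K G aX) π = AlgSt.ofSpMap ((AlgSp.yon S).map f)) :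
    AlgSt.IsCatModuliIn C π := by
  refine ⟨hY, fun N hN φ => ?_⟩
  have hψ := inv_psiOf φ
  obtain ⟨χ, hχ, huniq⟩ := hcat N hN (psiOf φ) hψ
  refine ⟨χ, ⟨eqToIso ?_⟩, fun χ' he' => huniq χ' ?_⟩
  · have h1 : BasedFunctor.comp (AlgSt.quotMap K G aX) (BasedFunctor.comp π (AlgSt.ofSpMap χ)) =
        AlgSt.ofSpMap (psiOf φ) := by
      rw [← BasedFunctor.comp_assoc, hπ, ← ofSpMap_comp]
      exact congrArg AlgSt.ofSpMap hχ
    rw [descFun_unique (psiOf φ) hψ _ h1,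
      ← descFun_unique (psiOf φ) hψ φ (ofSpMap_psiOf φ)]
  · have h2 : BasedFunctor.comp π (AlgSt.ofSpMap χ') = φ := eq_of_iso he'
    apply ofSpMap_injective
    rw [ofSpMap_comp, ← hπ, BasedFunctor.comp_assoc, h2, ofSpMap_psiOf]

theorem isCatModuli (f : X ⟶ Y)
    (hcat : ∀ (N : AlgSp.Space S) (ψ : (AlgSp.yon S).obj X ⟶ N.obj),
      (AlgSp.yon S).map aX.act ≫ ψ = (AlgSp.yon S).map (snd G X) ≫ ψ →
        ∃! χ : (AlgSp.yon S).obj Y ⟶ N.obj, (AlgSp.yon S).map f ≫ χ = ψ)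
    (π : AlgSt.QuotSt K G aX ⥤ᵇ AlgSt.ofSch Y)
    (hπ : BasedFunctor.comp (AlgSt.quotMap K G aX) π = AlgSt.ofSpMap ((AlgSp.yon S).map f)) :
    AlgSt.IsCatModuliIn (AlgSp.IsAlgSpace (S := S)) π :=
  isCatModuliIn _ f (AlgSp.IsAlgSpace.yon_obj Y) (fun N hN ψ hψ => hcat ⟨N, hN⟩ ψ hψ) π hπ

section Geom

variable {T : Over S}

/-- The trivial torsor at a point, as a fibre object. -/
noncomputable def trivObj (aX : AlgGrp.Action G X) (x : T ⟶ X) : (AlgSt.QuotSt K G aX).p.Fiber T :=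
  ⟨(AlgSt.quotMap K G aX).obj (⟨T, ⟨x⟩⟩ : (AlgSt.ofSch X).obj), rfl⟩

theorem exists_triv (hT : ∀ R ∈ QuotSh.J K S T, R (𝟙 T))
    (A : (AlgSt.QuotSt K G aX).p.Fiber T) :
    ∃ x : T ⟶ X, Nonempty (trivObj aX x ⟶ A) := by
  obtain ⟨A, rfl⟩ := A
  obtain ⟨s, hs⟩ := hT _ (secSieve_mem A)
  refine ⟨s ≫ A.φ, ⟨⟨trivHom' A s _ rfl, ?_⟩⟩⟩
  refine IsHomLift.of_fac' _ _ _ rfl rfl ?_
  show (trivHom' A s _ rfl).base = eqToHom rfl ≫ 𝟙 _ ≫ eqToHom rfl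
  rw [trivHom'_base, eqToHom_refl, Category.id_comp, Category.comp_id]
  exact hs

theorem triv_hom_of_act (x x' : T ⟶ X) (g : T ⟶ G) (h : lift g x' ≫ aX.act = x) :
    Nonempty (trivObj aX x ⟶ trivObj aX x') := by
  let A := (AlgSt.quotMap K G aX).obj (⟨T, ⟨x'⟩⟩ : (AlgSt.ofSch X).obj)
  let s : T ⟶ A.P := lift g (𝟙 T)
  have hx : s ≫ A.φ = x := by
    show lift g (𝟙 T) ≫ (G ◁ x') ≫ aX.act = x
    rw [← h, ← Category.assoc]
    congr 1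
    apply CartesianMonoidalCategory.hom_ext <;> simp
  refine ⟨⟨trivHom' A s x hx, ?_⟩⟩
  refine IsHomLift.of_fac' _ _ _ rfl rfl ?_
  show (trivHom' A s x hx).base = eqToHom rfl ≫ 𝟙 _ ≫ eqToHom rfl
  rw [trivHom'_base, eqToHom_refl, Category.id_comp, Category.comp_id]
  exact lift_snd g (𝟙 T)

theorem fibSec_triv (f : X ⟶ Y) (π : AlgSt.QuotSt K G aX ⥤ᵇ AlgSt.ofSch Y)
    (hπ : BasedFunctor.comp (AlgSt.quotMap K G aX) π = AlgSt.ofSpMap ((AlgSp.yon S).map f))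
    (x : T ⟶ X) :
    AlgSt.fibSec π (trivObj aX x) = ⟨x ≫ f⟩ := by
  have h0 : AlgSt.fibSec π (trivObj aX x) =
      secOf (BasedFunctor.comp (AlgSt.quotMap K G aX) π) (⟨T, ⟨x⟩⟩ : (AlgSt.ofSch X).obj) := rfl
  rw [h0, hπ, secOf_ofPshMap]
  rfl

end Geom

theorem geomPtBij (f : X ⟶ Y)
    (horb : ∀ (Ω : Type u) [Field Ω] [IsAlgClosed Ω] (t : Spec (CommRingCat.of Ω) ⟶ S),
      (∀ y : Over.mk t ⟶ Y, ∃ x : Over.mk t ⟶ X, x ≫ f = y) ∧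
      (∀ x x' : Over.mk t ⟶ X, x ≫ f = x' ≫ f → ∃ g : Over.mk t ⟶ G, lift g x' ≫ aX.act = x))
    (π : AlgSt.QuotSt K G aX ⥤ᵇ AlgSt.ofSch Y)
    (hπ : BasedFunctor.comp (AlgSt.quotMap K G aX) π = AlgSt.ofSpMap ((AlgSp.yon S).map f)) :
    AlgSt.GeomPtBij π := by
  intro Ω _ _ t
  obtain ⟨h1, h2⟩ := horb Ω t
  have hT := Groth.Agent.Lib.Helper28.GerbCoarse.topAt_fppf (S := S) Ω t
  refine ⟨fun m => ?_, fun A A' hAA' => ?_⟩
  · obtain ⟨x, hx⟩ := h1 m.down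
    exact ⟨trivObj aX x, (fibSec_triv f π hπ x).trans (ULift.ext _ _ hx)⟩
  · obtain ⟨x, ⟨mA⟩⟩ := exists_triv hT A
    obtain ⟨x', ⟨mA'⟩⟩ := exists_triv hT A'
    have e : x ≫ f = x' ≫ f := by
      have := (Groth.Agent.Lib.Helper28.GerbCoarse.fibSec_of_hom π mA).trans
        (hAA'.trans (Groth.Agent.Lib.Helper28.GerbCoarse.fibSec_of_hom π mA').symm)
      rw [fibSec_triv f π hπ, fibSec_triv f π hπ] at this
      exact congrArg ULift.down this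
    obtain ⟨g, hg⟩ := h2 x x' e
    obtain ⟨mm⟩ := triv_hom_of_act (aX := aX) x x' g hg
    obtain ⟨i1⟩ := fiberIso_of_hom mA
    obtain ⟨i2⟩ := fiberIso_of_hom mm
    obtain ⟨i3⟩ := fiberIso_of_hom mA'
    exact ⟨i1.symm ≪≫ i2 ≪≫ i3⟩

end Groth.Agent.Lib.Helper28.QuotSt.Coarse
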