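import Mathlib
import Groth.Prelude.Def_W4bk4git07Quot
import Groth.Agent.Lib.Helper28.QuotSt.Coarse
import Groth.Agent.Lib.Helper16.SchLocus

/-!
# Categorical moduli of `[X/G]` in schemes vs categorical quotients
-/

set_option autoImplicit false
set_option backward.isDefEq.respectTransparency false
set_option backward.isDefEq.respectTransparency.types false

universe u

open CategoryTheory CategoryTheory.Limits MonoidalCategory CartesianMonoidalCategory MonObj GrpObj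
  AlgebraicGeometry Opposite

namespace Groth.Agent.Lib.Helper28.QuotSt.CatQuot

open Groth.Agent.Lib.Helper28.QuotSt.Basic Groth.Agent.Lib.Helper28.QuotSt.PshExt
  Groth.Agent.Lib.Helper28.QuotSt.Desc Groth.Agent.Lib.Helper10.StkPsh
  Groth.Agent.Lib.Helper28.QuotSt.Iso Groth.Agent.Lib.Helper28.AlgSt.PshFun
  Groth.Agent.Lib.Helper28.QuotSt.Coarse

variable {S : Scheme.{u}} {G : Over S} [GrpObj G] {X Y : Over S} {aX : AlgGrp.Action G X}

local notation "K" => Scheme.fppfPrecoverage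

theorem inv_yon_iff {Z : Over S} (ψ : X ⟶ Z) :
    Inv ((AlgSp.yon S).map ψ) aX ↔ GIT.IsInvariant aX ψ := by
  unfold Basic.Inv GIT.IsInvariant
  rw [← Functor.map_comp, ← Functor.map_comp]
  exact ⟨fun h => (AlgSp.yon S).map_injective h, fun h => by rw [h]⟩

theorem hcat_of_isCatQuot (f : X ⟶ Y) (hq : GIT.IsCatQuot aX f) (N : AlgSp.Sp S)
    (hN : N.obj.IsRepresentable) (ψ : (AlgSp.yon S).obj X ⟶ N) (hψ : Inv ψ aX) :
    ∃! χ : (AlgSp.yon S).obj Y ⟶ N, (AlgSp.yon S).map f ≫ χ = ψ := by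
  obtain ⟨Z, ⟨e⟩⟩ := Groth.Agent.Lib.Helper16.SchLocus.exists_iso_yon_of_isRepresentable hN
  obtain ⟨ψ₀, hψ₀⟩ := (AlgSp.yon S).map_surjective (ψ ≫ e.inv)
  have hinv : GIT.IsInvariant aX ψ₀ := by
    rw [← inv_yon_iff, hψ₀]
    unfold Basic.Inv at hψ ⊢
    rw [← Category.assoc, hψ, Category.assoc]
  obtain ⟨χ₀, hχ₀, huniq⟩ := hq.2 Z ψ₀ hinv
  refine ⟨(AlgSp.yon S).map χ₀ ≫ e.hom, ?_, fun χ' hχ' => ?_⟩
  · show (AlgSp.yon S).map f ≫ (AlgSp.yon S).map χ₀ ≫ e.hom = ψ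
    rw [← Category.assoc, ← Functor.map_comp, hχ₀, hψ₀, Category.assoc, e.inv_hom_id,
      Category.comp_id]
  · obtain ⟨χ₀', hχ₀'⟩ := (AlgSp.yon S).map_surjective (χ' ≫ e.inv)
    have h1 : f ≫ χ₀' = ψ₀ := by
      apply (AlgSp.yon S).map_injective
      rw [Functor.map_comp, hχ₀', hψ₀, ← Category.assoc, hχ']
    rw [← huniq χ₀' h1, hχ₀', Category.assoc, e.inv_hom_id, Category.comp_id]

theorem main (f : X ⟶ Y) (π : AlgSt.QuotSt K G aX ⥤ᵇ AlgSt.ofSch Y)
    (hπ : BasedFunctor.comp (AlgSt.quotMap K G aX) π = AlgSt.ofSpMap ((AlgSp.yon S).map f)) :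
    AlgSt.IsCatModuliSch π ↔ GIT.IsCatQuot aX f := by
  have hYrep : ((AlgSp.yon S).obj Y).obj.IsRepresentable :=
    Groth.Agent.Lib.Helper16.SchLocus.isRepresentable_of_iso (Iso.refl _)
  constructor
  · intro h
    have hf : GIT.IsInvariant aX f := by
      rw [← inv_yon_iff]
      have h1 : psiOf π = (AlgSp.yon S).map f := by
        apply ofSpMap_injective
        rw [← ofSpMap_psiOf, hπ]
      rw [← h1]
      exact inv_psiOf π
    refine ⟨hf, fun Z ψ hψ => ?_⟩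
    have hψ' : Inv ((AlgSp.yon S).map ψ) aX := (inv_yon_iff ψ).2 hψ
    have hZrep : ((AlgSp.yon S).obj Z).obj.IsRepresentable :=
      Groth.Agent.Lib.Helper16.SchLocus.isRepresentable_of_iso (Iso.refl _)
    obtain ⟨g, hg, huniq⟩ := h.2 ((AlgSp.yon S).obj Z) hZrep (descFun ((AlgSp.yon S).map ψ) hψ')
    have hg' : BasedFunctor.comp π (AlgSt.ofSpMap g) = descFun ((AlgSp.yon S).map ψ) hψ' :=
      eq_of_iso hg
    obtain ⟨χ, hχ⟩ := (AlgSp.yon S).map_surjective g
    refine ⟨χ, ?_, fun χ' hχ' => ?_⟩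
    · apply (AlgSp.yon S).map_injective
      apply ofSpMap_injective
      rw [Functor.map_comp, ofSpMap_comp, ← hπ, BasedFunctor.comp_assoc, hχ, hg',
        quotMap_descFun]
    · apply (AlgSp.yon S).map_injective
      rw [hχ]
      apply huniq
      have h2 : BasedFunctor.comp (AlgSt.quotMap K G aX)
          (BasedFunctor.comp π (AlgSt.ofSpMap ((AlgSp.yon S).map χ'))) =
          AlgSt.ofSpMap ((AlgSp.yon S).map ψ) := by
        rw [← BasedFunctor.comp_assoc, hπ, ← ofSpMap_comp, ← Functor.map_comp, hχ']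
      exact ⟨eqToIso (descFun_unique _ hψ' _ h2)⟩
  · intro hq
    exact isCatModuliIn _ f hYrep (fun N hN ψ hψ => hcat_of_isCatQuot f hq N hN ψ hψ) π hπ

end Groth.Agent.Lib.Helper28.QuotSt.CatQuot
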