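import Mathlib
import Groth.Agent.S0412

/-!
# A smooth surjective morphism has a section over an etale cover
(copy of `H10PT.Boot.exists_etale_cover_section` with a light import closure)
-/

set_option autoImplicit false

universe u

open CategoryTheory CategoryTheory.Limits AlgebraicGeometry

namespace Groth.Agent.Lib.Helper28.QuotSt.EtSec

/-- A smooth surjective morphism of schemes has a section over an etale surjective cover. -/
theorem exists_etale_cover_section {X Y : Scheme.{u}} (g : X ⟶ Y) [Smooth g] [hs : Surjective g] :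
    ∃ (Y' : Scheme.{u}) (c : Y' ⟶ Y) (h : Y' ⟶ X), Etale c ∧ Surjective c ∧ h ≫ g = c := by
  have key : ∀ s : Y, ∃ (S' : Scheme.{u}) (g' : S' ⟶ Y) (s' : S'), Etale g' ∧ g' s' = s ∧
      ∃ h : S' ⟶ X, h ≫ g = g' := fun s => Groth.Agent.S0412.result g s (hs.surj s)
  choose S' g' s' hg' hs' h hh using key
  refine ⟨∐ S', Sigma.desc g', Sigma.desc h, ?_, ?_, ?_⟩
  · exact IsZariskiLocalAtSource.sigmaDesc hg'
  · refine ⟨fun s => ⟨(Sigma.ι S' s) (s' s), ?_⟩⟩
    rw [← Scheme.Hom.comp_apply, Sigma.ι_desc]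
    exact hs' s
  · apply Sigma.hom_ext
    intro s
    rw [← Category.assoc, Sigma.ι_desc, Sigma.ι_desc, hh]

end Groth.Agent.Lib.Helper28.QuotSt.EtSec
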