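import Mathlib
import Groth.Agent.Lib.Helper28.QuotSt.Iso
import Groth.Agent.Lib.Helper10.Fib4

/-!
# `G × X ⇉ X ⟶ [X/G]` is 2-cartesian
-/

set_option autoImplicit false
set_option backward.isDefEq.respectTransparency false
set_option backward.isDefEq.respectTransparency.types false

universe u

open CategoryTheory CategoryTheory.Limits MonoidalCategory CartesianMonoidalCategory MonObj GrpObj
  AlgebraicGeometry Opposite

namespace Groth.Agent.Lib.Helper28.QuotSt.TwoCart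

open Groth.Agent.Lib.Helper28.QuotSt.Basic Groth.Agent.Lib.Helper28.QuotSt.Iso

variable {S : Scheme.{u}} {G : Over S} [GrpObj G] {X : Over S} (aX : AlgGrp.Action G X)

local notation "K" => Scheme.fppfPrecoverage

/-- the trivial torsor at a point -/
noncomputable abbrev tv {V : Over S} (x : V ⟶ X) : AlgSt.QuotObj K G aX :=
  (AlgSt.quotMap K G aX).obj (⟨V, ⟨x⟩⟩ : (AlgSt.ofSch X).obj)

theorem rm_aux {V : Over S} (c : V ⟶ G ⊗ X) :
    (lift (c ≫ fst G X) (𝟙 V) : V ⟶ (tv aX (c ≫ snd G X)).P) ≫ (tv aX (c ≫ snd G X)).φ =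
      c ≫ aX.act := by
  show lift (c ≫ fst G X) (𝟙 V) ≫ (G ◁ (c ≫ snd G X)) ≫ aX.act = c ≫ aX.act
  rw [← Category.assoc]
  congr 1
  apply CartesianMonoidalCategory.hom_ext <;> simp

/-- Right multiplication by the group element: `tv (g·x) ⟶ tv x`. -/
noncomputable def rm {V : Over S} (c : V ⟶ G ⊗ X) :
    tv aX (c ≫ aX.act) ⟶ tv aX (c ≫ snd G X) :=
  trivHom' (tv aX (c ≫ snd G X)) (lift (c ≫ fst G X) (𝟙 V)) (c ≫ aX.act) (rm_aux aX c)

theorem rm_base {V : Over S} (c : V ⟶ G ⊗ X) : (rm aX c).base = 𝟙 V := by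
  unfold rm
  rw [trivHom'_base]
  exact lift_snd _ _

theorem rm_top_fst {V : Over S} (c : V ⟶ G ⊗ X) :
    (rm aX c).top ≫ fst G V = fst G V * (snd G V ≫ c ≫ fst G X) := by
  unfold rm
  rw [trivHom'_top]
  show (G ◁ lift (c ≫ fst G X) (𝟙 V)) ≫ (AlgSt.leftMul G V).act ≫ fst G V = _
  simp [AlgSt.leftMul, comp_mul]

theorem rm_top_snd {V : Over S} (c : V ⟶ G ⊗ X) :
    (rm aX c).top ≫ snd G V = snd G V := by
  unfold rm
  rw [trivHom'_top]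
  show (G ◁ lift (c ≫ fst G X) (𝟙 V)) ≫ (AlgSt.leftMul G V).act ≫ snd G V = _
  simp [AlgSt.leftMul]

instance {V : Over S} (c : V ⟶ G ⊗ X) : IsIso (rm aX c) := by
  haveI : IsIso (rm aX c).base := by rw [rm_base]; exact IsIso.id V
  exact isIso_of_isIso_base _

attribute [irreducible] rm

/-- `(V, c) ↦ (V, g·x)` -/
noncomputable abbrev fa' : AlgSt.ofSch (G ⊗ X) ⥤ᵇ AlgSt.ofSch X :=
  AlgSt.ofSpMap ((AlgSp.yon S).map aX.act)

/-- `(V, c) ↦ (V, x)` -/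
noncomputable abbrev fb' (_aX : AlgGrp.Action G X) : AlgSt.ofSch (G ⊗ X) ⥤ᵇ AlgSt.ofSch X :=
  AlgSt.ofSpMap ((AlgSp.yon S).map (snd G X))

theorem sec_of_hom {Z : Over S} {w' w : (AlgSt.ofSch Z).obj} (k : w' ⟶ w) :
    k.hom ≫ w.sec.down = w'.sec.down :=
  congrArg ULift.down k.map_sec

/-- the component of the 2-isomorphism -/
noncomputable def eApp (w : (AlgSt.ofSch (G ⊗ X)).obj) :
    (BasedFunctor.comp (fa' aX) (AlgSt.quotMap K G aX)).obj w ⟶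
      (BasedFunctor.comp (fb' aX) (AlgSt.quotMap K G aX)).obj w :=
  rm aX w.sec.down

instance (w : (AlgSt.ofSch (G ⊗ X)).obj) : IsIso (eApp aX w) :=
  inferInstanceAs (IsIso (rm aX w.sec.down))

theorem eApp_base (w : (AlgSt.ofSch (G ⊗ X)).obj) : (eApp aX w).base = 𝟙 w.base :=
  rm_base aX w.sec.down

theorem eApp_top_fst (w : (AlgSt.ofSch (G ⊗ X)).obj) :
    (eApp aX w).top ≫ fst G w.base = fst G w.base * (snd G w.base ≫ w.sec.down ≫ fst G X) :=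
  rm_top_fst aX w.sec.down

theorem eApp_top_snd (w : (AlgSt.ofSch (G ⊗ X)).obj) :
    (eApp aX w).top ≫ snd G w.base = snd G w.base :=
  rm_top_snd aX w.sec.down

/-- the top component with clean types -/
noncomputable def tTop (w : (AlgSt.ofSch (G ⊗ X)).obj) : G ⊗ w.base ⟶ G ⊗ w.base := (eApp aX w).top

theorem tTop_fst (w : (AlgSt.ofSch (G ⊗ X)).obj) :
    tTop aX w ≫ fst G w.base = fst G w.base * (snd G w.base ≫ w.sec.down ≫ fst G X) :=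
  rm_top_fst aX w.sec.down

theorem tTop_snd (w : (AlgSt.ofSch (G ⊗ X)).obj) : tTop aX w ≫ snd G w.base = snd G w.base :=
  rm_top_snd aX w.sec.down

theorem tTop_natural {w' w : (AlgSt.ofSch (G ⊗ X)).obj} (k : w' ⟶ w) :
    (G ◁ k.hom) ≫ tTop aX w = tTop aX w' ≫ (G ◁ k.hom) := by
  apply CartesianMonoidalCategory.hom_ext
  · rw [Category.assoc, Category.assoc, tTop_fst, whiskerLeft_fst, tTop_fst, comp_mul,
      whiskerLeft_fst, whiskerLeft_snd_assoc, ← sec_of_hom k, Category.assoc]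
  · rw [Category.assoc, Category.assoc, tTop_snd, whiskerLeft_snd, ← Category.assoc, tTop_snd]

omit [GrpObj G] in
theorem base_natural {w' w : (AlgSt.ofSch (G ⊗ X)).obj} (k : w' ⟶ w) :
    k.hom ≫ 𝟙 w.base = 𝟙 w'.base ≫ k.hom := by simp

set_option maxHeartbeats 400000 in
theorem eApp_naturality {w' w : (AlgSt.ofSch (G ⊗ X)).obj} (k : w' ⟶ w) :
    (BasedFunctor.comp (fa' aX) (AlgSt.quotMap K G aX)).map k ≫ eApp aX w =
      eApp aX w' ≫ (BasedFunctor.comp (fb' aX) (AlgSt.quotMap K G aX)).map k := by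
  apply AlgSt.QuotObj.hom_ext
  · have h1 : (eApp aX w).base = 𝟙 w.base := eApp_base aX w
    have h2 : (eApp aX w').base = 𝟙 w'.base := eApp_base aX w'
    show k.hom ≫ (eApp aX w).base = (eApp aX w').base ≫ k.hom
    rw [h1, h2]
    exact base_natural k
  · exact tTop_natural aX k

/-- the underlying natural isomorphism -/
noncomputable def eNatIso :
    (BasedFunctor.comp (fa' aX) (AlgSt.quotMap K G aX)).toFunctor ≅
      (BasedFunctor.comp (fb' aX) (AlgSt.quotMap K G aX)).toFunctor :=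
  NatIso.ofComponents (fun w => asIso (eApp aX w)) (fun k => eApp_naturality aX k)

theorem eNatIso_hom_app (w : (AlgSt.ofSch (G ⊗ X)).obj) : (eNatIso aX).hom.app w = eApp aX w := rfl

theorem comp_fa_base (w : (AlgSt.ofSch (G ⊗ X)).obj) :
    ((BasedFunctor.comp (fa' aX) (AlgSt.quotMap K G aX)).obj w).base = w.base := rfl

theorem comp_fb_base (w : (AlgSt.ofSch (G ⊗ X)).obj) :
    ((BasedFunctor.comp (fb' aX) (AlgSt.quotMap K G aX)).obj w).base = w.base := rfl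

theorem p_map_eApp (w : (AlgSt.ofSch (G ⊗ X)).obj) :
    (AlgSt.QuotSt K G aX).p.map (eApp aX w) = (eApp aX w).base := rfl

theorem eApp_isHomLift (w : (AlgSt.ofSch (G ⊗ X)).obj) :
    (AlgSt.QuotSt K G aX).p.IsHomLift (𝟙 w.base) (eApp aX w) := by
  refine IsHomLift.of_fac' _ _ _ (comp_fa_base aX w) (comp_fb_base aX w) ?_
  rw [p_map_eApp, eApp_base]
  simp only [eqToHom_refl, Category.comp_id]
  rfl

/-- The 2-isomorphism `π ∘ a ≅ π ∘ pr₂`. -/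
noncomputable def eIso :
    BasedFunctor.comp (fa' aX) (AlgSt.quotMap K G aX) ≅
      BasedFunctor.comp (fb' aX) (AlgSt.quotMap K G aX) :=
  BasedNatIso.mkNatIso (eNatIso aX) (fun w => eApp_isHomLift aX w)

theorem eIso_hom_app (w : (AlgSt.ofSch (G ⊗ X)).obj) :
    (eIso aX).hom.toNatTrans.app w = eApp aX w := rfl

/-- the comparison functor -/
noncomputable abbrev L : AlgSt.ofSch (G ⊗ X) ⥤ᵇ
    FibCat.fp (AlgSt.quotMap K G aX) (AlgSt.quotMap K G aX) :=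
  FibCat.fpLift (fa' aX) (fb' aX) (eIso aX)

theorem L_iso_hom (w : (AlgSt.ofSch (G ⊗ X)).obj) : ((L aX).obj w).obj.iso.hom = eApp aX w := rfl

theorem L_map_fst_hom {w' w : (AlgSt.ofSch (G ⊗ X)).obj} (k : w' ⟶ w) :
    ((L aX).map k).hom.fst.hom = k.hom := rfl

theorem L_map_snd_hom {w' w : (AlgSt.ofSch (G ⊗ X)).obj} (k : w' ⟶ w) :
    ((L aX).map k).hom.snd.hom = k.hom := rfl

instance : (L aX).toFunctor.Faithful where
  map_injective {w' w} k k' h := by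
    apply Stk.EltObj.hom_ext
    have := congrArg (fun m => m.hom.fst.hom) h
    exact this

omit [GrpObj G] in
theorem unit_key {V' V : Over S} [GrpObj G] (k k₂ : V' ⟶ V) (g : V ⟶ G) (g' : V' ⟶ G)
    (T : G ⊗ V ⟶ G ⊗ V) (T' : G ⊗ V' ⟶ G ⊗ V')
    (hT : T ≫ fst G V = fst G V * (snd G V ≫ g)) (hT' : T' ≫ fst G V' = fst G V' * (snd G V' ≫ g'))
    (h : (G ◁ k) ≫ T = T' ≫ (G ◁ k₂)) : k ≫ g = g' := by
  have := congrArg (fun m => lift (1 : V' ⟶ G) (𝟙 V') ≫ m ≫ fst G V) h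
  simp only [Category.assoc, hT, whiskerLeft_fst, hT'] at this
  simpa [comp_mul] using this

theorem full_aux {w' w : (AlgSt.ofSch (G ⊗ X)).obj} (h : (L aX).obj w' ⟶ (L aX).obj w) :
    h.hom.fst.hom = h.hom.snd.hom ∧ h.hom.fst.hom ≫ w.sec.down = w'.sec.down := by
  have hw := h.hom.w
  have hbase : h.hom.fst.hom ≫ (eApp aX w).base = (eApp aX w').base ≫ h.hom.snd.hom :=
    congrArg AlgSt.QuotObj.Hom.base hw
  have htop : (G ◁ h.hom.fst.hom) ≫ tTop aX w = tTop aX w' ≫ (G ◁ h.hom.snd.hom) :=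
    congrArg AlgSt.QuotObj.Hom.top hw
  have hb : h.hom.fst.hom = h.hom.snd.hom := by
    have e1 : (eApp aX w).base = 𝟙 w.base := eApp_base aX w
    have e2 : (eApp aX w').base = 𝟙 w'.base := eApp_base aX w'
    rw [e1, e2] at hbase
    exact (Category.comp_id _).symm.trans (hbase.trans (Category.id_comp _))
  refine ⟨hb, ?_⟩
  have h1 : h.hom.fst.hom ≫ w.sec.down ≫ fst G X = w'.sec.down ≫ fst G X :=
    unit_key h.hom.fst.hom h.hom.snd.hom _ _ (tTop aX w) (tTop aX w') (tTop_fst aX w)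
      (tTop_fst aX w') htop
  have h2 : h.hom.snd.hom ≫ w.sec.down ≫ snd G X = w'.sec.down ≫ snd G X := sec_of_hom h.hom.snd
  apply CartesianMonoidalCategory.hom_ext
  · simpa using h1
  · rw [hb]; simpa using h2

instance : (L aX).toFunctor.Full where
  map_surjective {w' w} h := by
    obtain ⟨hb, hsec⟩ := full_aux aX h
    refine ⟨⟨h.hom.fst.hom, congrArg ULift.up hsec⟩, ?_⟩
    apply ObjectProperty.hom_ext
    apply CategoricalPullback.hom_ext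
    · exact Stk.EltObj.hom_ext rfl
    · exact Stk.EltObj.hom_ext hb

theorem lift_one_act {V : Over S} (p : V ⟶ X) : lift (1 : V ⟶ G) p ≫ aX.act = p := by
  have h : lift (1 : V ⟶ G) p = lift (toUnit V) p ≫ (η[G] ▷ X) := by
    apply CartesianMonoidalCategory.hom_ext
    · simp [Hom.one_def]
    · simp
  rw [h, Category.assoc, aX.one_act]
  simp

section Triv
variable {V₁ V₂ : Over S} (p₁ : V₁ ⟶ X) (p₂ : V₂ ⟶ X) (T : G ⊗ V₁ ⟶ G ⊗ V₂) (b : V₁ ⟶ V₂)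

/-- the group element of a morphism of trivial torsors -/
noncomputable def gOf : V₁ ⟶ G := lift (1 : V₁ ⟶ G) (𝟙 V₁) ≫ T ≫ fst G V₂

theorem top_fst (heqv : (AlgSt.leftMul G V₁).act ≫ T = (G ◁ T) ≫ (AlgSt.leftMul G V₂).act) :
    T ≫ fst G V₂ = fst G V₁ * (snd G V₁ ≫ gOf T) := by
  have hj : lift (fst G V₁) (lift (1 : G ⊗ V₁ ⟶ G) (snd G V₁)) ≫ (AlgSt.leftMul G V₁).act = 𝟙 _ := by
    apply CartesianMonoidalCategory.hom_ext <;> simp [AlgSt.leftMul, comp_mul]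
  have h2 := congrArg (fun t => lift (fst G V₁) (lift (1 : G ⊗ V₁ ⟶ G) (snd G V₁)) ≫ t ≫ fst G V₂) heqv
  simp only [← Category.assoc] at h2
  rw [hj] at h2
  simp only [Category.assoc, Category.id_comp] at h2
  rw [h2]
  unfold gOf
  have h5 : lift (1 : G ⊗ V₁ ⟶ G) (snd G V₁) = snd G V₁ ≫ lift (1 : V₁ ⟶ G) (𝟙 V₁) := by
    apply CartesianMonoidalCategory.hom_ext <;> simp
  simp only [AlgSt.leftMul, comp_mul, lift_fst, lift_fst_assoc, lift_snd_assoc, whiskerLeft_fst_assoc,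
    whiskerLeft_snd_assoc, Category.assoc]
  rw [h5]
  simp only [Category.assoc, whiskerLeft_fst, lift_fst]

theorem unit_top (hcart : T ≫ snd G V₂ = snd G V₁ ≫ b) :
    lift (1 : V₁ ⟶ G) (𝟙 V₁) ≫ T = lift (gOf T) b := by
  apply CartesianMonoidalCategory.hom_ext
  · simp [gOf]
  · rw [Category.assoc, hcart]; simp

include aX in
theorem act_gOf (hcart : T ≫ snd G V₂ = snd G V₁ ≫ b)
    (hφ : T ≫ (G ◁ p₂) ≫ aX.act = (G ◁ p₁) ≫ aX.act) :
    lift (gOf T) (b ≫ p₂) ≫ aX.act = p₁ := by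
  have h2 := congrArg (fun t => lift (1 : V₁ ⟶ G) (𝟙 V₁) ≫ t) hφ
  simp only [← Category.assoc] at h2
  rw [unit_top T b hcart] at h2
  have h3 : lift (gOf T) b ≫ (G ◁ p₂) = lift (gOf T) (b ≫ p₂) := by
    apply CartesianMonoidalCategory.hom_ext <;> simp
  have h4 : lift (1 : V₁ ⟶ G) (𝟙 V₁) ≫ (G ◁ p₁) = lift (1 : V₁ ⟶ G) p₁ := by
    apply CartesianMonoidalCategory.hom_ext <;> simp
  rw [h3, h4, lift_one_act] at h2
  exact h2

end Triv

omit [GrpObj G] in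
/-- isomorphisms in the category of a sheaf -/
def eltIso {N : AlgSp.Sp S} {a b : (AlgSt.ofSp N).obj} (e : a.base ≅ b.base)
    (h : N.obj.map e.hom.op b.sec = a.sec) : a ≅ b where
  hom := ⟨e.hom, h⟩
  inv := ⟨e.inv, by
    rw [← h, Groth.Agent.Lib.Helper10.StkPsh.map_map, e.inv_hom_id]
    simp⟩
  hom_inv_id := Stk.EltObj.hom_ext e.hom_inv_id
  inv_hom_id := Stk.EltObj.hom_ext e.inv_hom_id

theorem hw_top {V₁ V₂ : Over S} (T : G ⊗ V₁ ⟶ G ⊗ V₂) (b : V₁ ⟶ V₂) (p₂ : V₂ ⟶ X)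
    (hcart : T ≫ snd G V₂ = snd G V₁ ≫ b)
    (heqv : (AlgSt.leftMul G V₁).act ≫ T = (G ◁ T) ≫ (AlgSt.leftMul G V₂).act) :
    (G ◁ 𝟙 V₁) ≫ T =
      tTop aX (⟨V₁, ⟨lift (gOf T) (b ≫ p₂)⟩⟩ : (AlgSt.ofSch (G ⊗ X)).obj) ≫ (G ◁ b) := by
  rw [MonoidalCategory.whiskerLeft_id, Category.id_comp]
  apply CartesianMonoidalCategory.hom_ext
  · rw [top_fst T heqv, Category.assoc, whiskerLeft_fst]
    have := tTop_fst aX (⟨V₁, ⟨lift (gOf T) (b ≫ p₂)⟩⟩ : (AlgSt.ofSch (G ⊗ X)).obj)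
    rw [this]
    congr 2
    exact (lift_fst _ _).symm
  · rw [hcart, Category.assoc, whiskerLeft_snd, ← Category.assoc]
    have := tTop_snd aX (⟨V₁, ⟨lift (gOf T) (b ≫ p₂)⟩⟩ : (AlgSt.ofSch (G ⊗ X)).obj)
    rw [this]

theorem ess (y : (FibCat.fp (AlgSt.quotMap K G aX) (AlgSt.quotMap K G aX)).obj) :
    ∃ (w : (AlgSt.ofSch (G ⊗ X)).obj) (e : (L aX).obj w ≅ y),
      (FibCat.fp (AlgSt.quotMap K G aX) (AlgSt.quotMap K G aX)).p.IsHomLift
        (𝟙 ((FibCat.fp (AlgSt.quotMap K G aX) (AlgSt.quotMap K G aX)).p.obj y)) e.hom := by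
  obtain ⟨⟨x₁, x₂, θ⟩, hy⟩ := y
  obtain ⟨V₁, ⟨p₁⟩⟩ := x₁
  obtain ⟨V₂, ⟨p₂⟩⟩ := x₂
  let m : tv aX p₁ ⟶ tv aX p₂ := θ.hom
  let T : G ⊗ V₁ ⟶ G ⊗ V₂ := m.top
  let b : V₁ ⟶ V₂ := m.base
  have hcart : T ≫ snd G V₂ = snd G V₁ ≫ b := m.cart.w
  have heqv : (AlgSt.leftMul G V₁).act ≫ T = (G ◁ T) ≫ (AlgSt.leftMul G V₂).act := m.eqv
  have hφ : T ≫ (G ◁ p₂) ≫ aX.act = (G ◁ p₁) ≫ aX.act := m.wφ
  haveI : IsIso b := inferInstanceAs (IsIso ((AlgSt.QuotSt K G aX).p.map θ.hom))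
  let w : (AlgSt.ofSch (G ⊗ X)).obj := ⟨V₁, ⟨lift (gOf T) (b ≫ p₂)⟩⟩
  have hc1 : lift (gOf T) (b ≫ p₂) ≫ aX.act = p₁ := act_gOf aX p₁ p₂ T b hcart hφ
  have hc2 : lift (gOf T) (b ≫ p₂) ≫ snd G X = b ≫ p₂ := lift_snd _ _
  let i₁ : (fa' aX).obj w ≅ (⟨V₁, ⟨p₁⟩⟩ : (AlgSt.ofSch X).obj) :=
    eltIso (Iso.refl V₁) (by
      show (⟨𝟙 V₁ ≫ p₁⟩ : ULift (V₁ ⟶ X)) = ⟨lift (gOf T) (b ≫ p₂) ≫ aX.act⟩
      rw [hc1, Category.id_comp])
  let i₂ : (fb' aX).obj w ≅ (⟨V₂, ⟨p₂⟩⟩ : (AlgSt.ofSch X).obj) :=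
    eltIso (asIso b) (by
      show (⟨b ≫ p₂⟩ : ULift (V₁ ⟶ X)) = ⟨lift (gOf T) (b ≫ p₂) ≫ snd G X⟩
      rw [hc2])
  have hw : (AlgSt.quotMap K G aX).map i₁.hom ≫ θ.hom =
      eApp aX w ≫ (AlgSt.quotMap K G aX).map i₂.hom := by
    apply AlgSt.QuotObj.hom_ext
    · have e1 : (eApp aX w).base = 𝟙 V₁ := eApp_base aX w
      show 𝟙 V₁ ≫ b = (eApp aX w).base ≫ b
      rw [e1]
    · exact hw_top aX T b p₂ hcart heqv
  refine ⟨w, (FibCat.fpProp _ _).isoMk (X := (L aX).obj w) (CategoricalPullback.mkIso i₁ i₂ hw), ?_⟩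
  refine IsHomLift.of_fac' _ _ _ rfl rfl ?_
  show 𝟙 V₁ = eqToHom rfl ≫ 𝟙 V₁ ≫ eqToHom rfl
  simp

theorem isEquivOver_L : FibCat.IsEquivOver (L aX) :=
  Groth.Agent.Lib.Helper10.Fib.isEquivOver_of_ff (L aX) (ess aX)

end Groth.Agent.Lib.Helper28.QuotSt.TwoCart
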